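import Cfsg.Agent.Lib.SylTwo.Basic
import Cfsg.Agent.Lib.LinearGroup.TorusSylow
import Cfsg.Agent.Lib.LinearGroup.Card

/-!
Sylow 2-subgroups of `SL₂(q)` and, for `q ≡ 3 mod 4`, of `GL₂(q)`.
-/

set_option autoImplicit false

namespace Cfsg.Agent.SylTwo

open QuaternionGroup
open scoped Matrix
open scoped commutatorElement

theorem quat_sqComm {n : ℕ} [NeZero n] (hn : Even n) : SqComm (QuaternionGroup n) := by
  have inv_a : ∀ i : ZMod (2 * n), (a i : QuaternionGroup n)⁻¹ = a (-i) := fun _ => rfl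
  have inv_xa : ∀ i : ZMod (2 * n), (xa i : QuaternionGroup n)⁻¹ = xa ((n : ZMod (2 * n)) + i) :=
    fun _ => rfl
  have hkk : (n : ZMod (2 * n)) + (n : ZMod (2 * n)) = 0 := by
    rw [← two_mul, ← ZMod.natCast_self (2 * n)]; push_cast; ring
  have hmem : ∀ i : ZMod (2 * n), (a (i + i) : QuaternionGroup n) ∈
      commutator (QuaternionGroup n) := by
    intro i
    have h := Subgroup.commutator_mem_commutator (G := QuaternionGroup n) (H₁ := ⊤) (H₂ := ⊤)
      (Subgroup.mem_top (a i)) (Subgroup.mem_top (xa 0))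
    simp only [commutatorElement_def, inv_a, inv_xa, a_mul_a, a_mul_xa, xa_mul_a, xa_mul_xa] at h
    rw [commutator_def]
    convert h using 2
    linear_combination -hkk
  rintro (i | i)
  · rw [pow_two, a_mul_a]; exact hmem i
  · rw [pow_two, xa_mul_xa]
    obtain ⟨r, hr⟩ := hn
    have : ((n : ZMod (2 * n)) + i - i) = (r : ZMod (2 * n)) + r := by
      rw [add_sub_cancel_right]; exact_mod_cast congrArg (fun k : ℕ => (k : ZMod (2 * n))) hr
    rw [this]; exact hmem r

theorem quat_derived_two {n : ℕ} [NeZero n] : derivedSeries (QuaternionGroup n) 2 = ⊥ := by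
  let A : Subgroup (QuaternionGroup n) :=
    { carrier := Set.range a
      one_mem' := ⟨0, rfl⟩
      mul_mem' := by rintro _ _ ⟨i, rfl⟩ ⟨j, rfl⟩; exact ⟨i + j, (a_mul_a i j).symm⟩
      inv_mem' := by rintro _ ⟨i, rfl⟩; exact ⟨-i, rfl⟩ }
  have inv_a : ∀ i : ZMod (2 * n), (a i : QuaternionGroup n)⁻¹ = a (-i) := fun _ => rfl
  have inv_xa : ∀ i : ZMod (2 * n), (xa i : QuaternionGroup n)⁻¹ = xa ((n : ZMod (2 * n)) + i) :=
    fun _ => rfl
  have h1 : derivedSeries (QuaternionGroup n) 1 ≤ A := by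
    rw [derivedSeries_one, commutator_def, Subgroup.commutator_le]
    rintro (i | i) - (j | j) - <;>
      simp only [commutatorElement_def, inv_a, inv_xa, a_mul_a, a_mul_xa, xa_mul_a, xa_mul_xa] <;>
      exact ⟨_, rfl⟩
  rw [derivedSeries_succ, Subgroup.commutator_eq_bot_iff_le_centralizer]
  intro x hx y hy
  obtain ⟨i, rfl⟩ := h1 hx
  obtain ⟨j, rfl⟩ := h1 hy
  rw [a_mul_a, a_mul_a, add_comm]

theorem quat_derived_one {n : ℕ} (hn : 2 ≤ n) : derivedSeries (QuaternionGroup n) 1 ≠ ⊥ := by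
  intro h
  rw [derivedSeries_one, commutator_def] at h
  have hc := Subgroup.commutator_mem_commutator (G := QuaternionGroup n) (H₁ := ⊤) (H₂ := ⊤)
    (Subgroup.mem_top (a 1)) (Subgroup.mem_top (xa 0))
  rw [h, Subgroup.mem_bot, commutatorElement_eq_one_iff_mul_comm, a_mul_xa, xa_mul_a] at hc
  have h2 : ((0 : ZMod (2 * n)) - 1) = 0 + 1 := QuaternionGroup.xa.inj hc
  have : ((2 : ℕ) : ZMod (2 * n)) = 0 := by push_cast; linear_combination -h2
  rw [ZMod.natCast_eq_zero_iff] at this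
  exact absurd (Nat.le_of_dvd two_pos this) (by omega)

theorem derivedSeries_eq_bot_of_injective' {G H : Type*} [Group G] [Group H] (f : G →* H)
    (hf : Function.Injective f) {n : ℕ} (h : derivedSeries H n = ⊥) :
    derivedSeries G n = ⊥ := by
  rw [eq_bot_iff]
  intro x hx
  have := map_derivedSeries_le_derivedSeries f n ⟨x, hx, rfl⟩
  rw [h, Subgroup.mem_bot] at this
  exact Subgroup.mem_bot.2 (hf (this.trans (map_one f).symm))

variable {F : Type*} [Field F] [Fintype F]

theorem odd_natCard (hF : Odd (Fintype.card F)) : Odd (Nat.card F) := by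
  rwa [Nat.card_eq_fintype_card]

theorem two_le_card : 2 ≤ Fintype.card F := Fintype.one_lt_card

theorem two_ne_zero_of_odd_card (hF : Odd (Fintype.card F)) : (2 : F) ≠ 0 :=
  Ring.two_ne_zero fun h => by
    haveI : CharP F 2 := h ▸ ringChar.charP F
    have := FiniteField.even_card_of_char_two (F := F) h
    rw [Nat.odd_iff] at hF
    omega

theorem factorization_card_SL_two (hF : Odd (Fintype.card F)) :
    (Nat.card (Matrix.SpecialLinearGroup (Fin 2) F)).factorization 2 =
      (Fintype.card F ^ 2 - 1).factorization 2 := by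
  have h1 : 1 < Fintype.card F ^ 2 := one_lt_pow₀ Fintype.one_lt_card two_ne_zero
  rw [LinearGroup.card_SL_two, Nat.card_eq_fintype_card]
  conv_lhs => rw [← pow_one (Fintype.card F)]
  rw [factorization_two_odd_pow_mul hF 1 _ (by rw [pow_one]; omega), pow_one]

theorem exists_sl_two (hF : Odd (Fintype.card F)) :
    ∃ Q : Subgroup (Matrix.SpecialLinearGroup (Fin 2) F),
      Nat.card Q = 2 ^ (Fintype.card F ^ 2 - 1).factorization 2 ∧ SqComm Q ∧
      derivedSeries Q 2 = ⊥ ∧ derivedSeries Q 1 ≠ ⊥ ∧ (-1) ∈ Q := by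
  haveI : Fact (Nat.Prime 2) := ⟨Nat.prime_two⟩
  let z : Matrix.SpecialLinearGroup (Fin 2) F := -1
  have hz : IsPGroup 2 (Subgroup.zpowers z) := by
    intro x
    obtain ⟨k, hk⟩ := x.2
    refine ⟨1, Subtype.ext ?_⟩
    rw [pow_one, SubmonoidClass.coe_pow, ← hk, ← zpow_natCast, ← zpow_mul, mul_comm, _root_.zpow_mul,
      zpow_natCast, show z ^ 2 = 1 by simp [z], one_zpow]
    rfl
  obtain ⟨Q, hQ⟩ := hz.exists_le_sylow
  obtain ⟨k, hk, ⟨e⟩⟩ := LinearGroup.quaternion_sylow_SL_two (odd_natCard hF) Q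
  haveI : NeZero (2 ^ k) := ⟨by positivity⟩
  refine ⟨Q, ?_, sqComm_congr e.symm (quat_sqComm ((Nat.even_pow' (by omega)).2 even_two)),
    derivedSeries_eq_bot_of_injective' e.toMonoidHom e.injective quat_derived_two, ?_,
    hQ (Subgroup.mem_zpowers z)⟩
  · rw [Q.card_eq_multiplicity, factorization_card_SL_two hF]
  · intro h
    refine quat_derived_one (n := 2 ^ k) ?_
      (derivedSeries_eq_bot_of_injective' e.symm.toMonoidHom e.symm.injective h)
    calc 2 = 2 ^ 1 := rfl
      _ ≤ 2 ^ k := Nat.pow_le_pow_right two_pos hk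

theorem sq_eq_one_of_pow_two_pow {c : Fˣ} (hq : Fintype.card F % 4 = 3) {k : ℕ}
    (hc : c ^ 2 ^ k = 1) : c ^ 2 = 1 := by
  classical
  rcases Nat.eq_zero_or_pos k with rfl | hk
  · rw [pow_zero, pow_one] at hc; rw [hc, one_pow]
  have h1 : c ^ (Fintype.card F - 1) = 1 := by
    rw [← Fintype.card_units]; exact pow_card_eq_one
  have hg : c ^ Nat.gcd (2 ^ k) (Fintype.card F - 1) = 1 := pow_gcd_eq_one.2 ⟨hc, h1⟩
  have hd2 : Nat.gcd (2 ^ k) (Fintype.card F - 1) ∣ 2 := by
    obtain ⟨j, hj, hje⟩ := (Nat.dvd_prime_pow Nat.prime_two).1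
      (Nat.gcd_dvd_left (2 ^ k) (Fintype.card F - 1))
    rw [hje]
    rcases Nat.lt_or_ge j 2 with h | h
    · exact (Nat.pow_dvd_pow 2 (Nat.lt_succ_iff.1 h)).trans (by norm_num)
    · exfalso
      have h4 : 2 ^ 2 ∣ Fintype.card F - 1 :=
        (Nat.pow_dvd_pow 2 h).trans (hje ▸ Nat.gcd_dvd_right _ _)
      omega
  obtain ⟨r, hr⟩ := hd2
  rw [hr, pow_mul, hg, one_pow]

/-- A Sylow 2-subgroup of `GL₂(q)` for `q ≡ 3 mod 4`. -/
theorem exists_gl_two (hq : Fintype.card F % 4 = 3) :
    ∃ (W : Subgroup (GL (Fin 2) F)) (y : W),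
      Nat.card W = 2 ^ ((Fintype.card F ^ 2 - 1).factorization 2 + 1) ∧ SqComm W ∧
      SqComm ↥(Matrix.GeneralLinearGroup.det.ker.subgroupOf W) ∧
      Nat.card ↥(Matrix.GeneralLinearGroup.det.ker.subgroupOf W) =
        2 ^ (Fintype.card F ^ 2 - 1).factorization 2 ∧
      y * y = 1 ∧ Matrix.GeneralLinearGroup.det (y : GL (Fin 2) F) = -1 ∧
      ∀ w : W, Matrix.GeneralLinearGroup.det (w : GL (Fin 2) F) = 1 ∨
        Matrix.GeneralLinearGroup.det (w : GL (Fin 2) F) = -1 := by
  classical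
  haveI : Fact (Nat.Prime 2) := ⟨Nat.prime_two⟩
  have hF : Odd (Fintype.card F) := Nat.odd_iff.2 (by omega)
  have h2 := two_ne_zero_of_odd_card hF
  set N := (Matrix.GeneralLinearGroup.det : GL (Fin 2) F →* Fˣ).ker
  -- an involution of determinant minus one
  let d : GL (Fin 2) F := Matrix.GeneralLinearGroup.mkOfDetNeZero !![-1, 0; 0, 1]
    (by simp [Matrix.det_fin_two_of])
  have hdd : d * d = 1 := Units.ext (by
    show (!![-1, 0; 0, 1] : Matrix (Fin 2) (Fin 2) F) * !![-1, 0; 0, 1] = 1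
    rw [Matrix.mul_fin_two, Matrix.one_fin_two]; simp)
  have hdp : IsPGroup 2 (Subgroup.zpowers d) := by
    intro x
    obtain ⟨k, hk⟩ := x.2
    refine ⟨1, Subtype.ext ?_⟩
    rw [pow_one, SubmonoidClass.coe_pow, ← hk, ← zpow_natCast, ← zpow_mul, mul_comm, _root_.zpow_mul,
      zpow_natCast, pow_two, hdd, one_zpow]
    rfl
  obtain ⟨W, hW⟩ := hdp.exists_le_sylow
  -- orders
  have hcard : (Nat.card (GL (Fin 2) F)).factorization 2 =
      (Fintype.card F ^ 2 - 1).factorization 2 + 1 := by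
    rw [LinearGroup.card_GL_eq_units_mul_SL, Nat.factorization_mul Nat.card_pos.ne' Nat.card_pos.ne',
      Finsupp.add_apply, factorization_card_SL_two hF, LinearGroup.natCard_units_field,
      Nat.card_eq_fintype_card]
    have : (Fintype.card F - 1).factorization 2 = 1 := by
      obtain ⟨r, hr⟩ : ∃ r, Fintype.card F - 1 = 2 * (2 * r + 1) :=
        ⟨(Fintype.card F - 1) / 4, by omega⟩
      rw [hr, Nat.factorization_mul (by omega) (by omega), Finsupp.add_apply,
        Nat.prime_two.factorization_self, Nat.factorization_eq_zero_of_not_dvd (by omega)]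
    omega
  have hWc : Nat.card W = 2 ^ (Nat.card (GL (Fin 2) F)).factorization 2 := W.card_eq_multiplicity
  obtain ⟨S⟩ : Nonempty (Sylow 2 N) := inferInstance
  obtain ⟨e⟩ := nonempty_equiv_sylow_normal (W : Subgroup (GL (Fin 2) F)).subtype
    Subtype.coe_injective hWc N S
  have hN : N = (Matrix.GeneralLinearGroup.det : GL (Fin 2) F →* Fˣ).ker := rfl
  obtain ⟨Q, hQc, hQs, -, -, -⟩ := exists_sl_two hF
  have hS : Nat.card S = 2 ^ (Fintype.card F ^ 2 - 1).factorization 2 := by
    rw [S.card_eq_multiplicity, hN, ← Nat.card_congr LinearGroup.slEquivKerDet.toEquiv,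
      factorization_card_SL_two hF]
  obtain ⟨e'⟩ := nonempty_equiv_sylow (G := N)
    ((LinearGroup.slEquivKerDet (n := Fin 2) (R := F)).toMonoidHom.comp Q.subtype)
    ((LinearGroup.slEquivKerDet (n := Fin 2) (R := F)).injective.comp Subtype.coe_injective)
    (by rw [hQc, hN, ← Nat.card_congr LinearGroup.slEquivKerDet.toEquiv,
      factorization_card_SL_two hF]) S
  have hker : SqComm ↥(N.subgroupOf (W : Subgroup (GL (Fin 2) F))) :=
    sqComm_congr e.symm (sqComm_congr e' hQs)
  let y : (W : Subgroup (GL (Fin 2) F)) := ⟨d, hW (Subgroup.mem_zpowers d)⟩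
  have hy2 : y * y = 1 := Subtype.ext hdd
  have hyd : Matrix.GeneralLinearGroup.det (y : GL (Fin 2) F) = -1 := Units.ext (by
    rw [Matrix.GeneralLinearGroup.val_det_apply]
    show (!![-1, 0; 0, 1] : Matrix (Fin 2) (Fin 2) F).det = _
    simp [Matrix.det_fin_two_of])
  have hdet : ∀ w : (W : Subgroup (GL (Fin 2) F)),
      Matrix.GeneralLinearGroup.det (w : GL (Fin 2) F) = 1 ∨
        Matrix.GeneralLinearGroup.det (w : GL (Fin 2) F) = -1 := by
    intro w
    obtain ⟨k, hk⟩ := W.2 w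
    have hk' : Matrix.GeneralLinearGroup.det (w : GL (Fin 2) F) ^ 2 ^ k = 1 := by
      rw [← map_pow, ← SubmonoidClass.coe_pow, hk, Subgroup.coe_one, map_one]
    have h := congrArg Units.val (sq_eq_one_of_pow_two_pow hq hk')
    rw [Units.val_pow_eq_pow_val, Units.val_one, pow_two] at h
    rcases mul_self_eq_one_iff.1 h with h | h
    · exact Or.inl (Units.ext (by simpa using h))
    · exact Or.inr (Units.ext (by simpa using h))
  refine ⟨W, y, by rw [hWc, hcard], ?_, hker, ?_, hy2, hyd, hdet⟩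
  · refine sqComm_of_closure
      (insert y (N.subgroupOf (W : Subgroup (GL (Fin 2) F)) : Set (W : Subgroup (GL (Fin 2) F)))) ?_ ?_
    · rw [eq_top_iff]
      intro w _
      rcases hdet w with h | h
      · exact Subgroup.subset_closure (Or.inr h)
      · have hmem : w * y ∈ N.subgroupOf (W : Subgroup (GL (Fin 2) F)) := by
          show Matrix.GeneralLinearGroup.det ((w * y : (W : Subgroup (GL (Fin 2) F))) : GL (Fin 2) F) = 1
          rw [Subgroup.coe_mul, map_mul, h, hyd]; simp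
        have : w = w * y * y := by rw [mul_assoc, hy2, mul_one]
        rw [this]
        exact mul_mem (Subgroup.subset_closure (Or.inr hmem))
          (Subgroup.subset_closure (Or.inl rfl))
    · rintro s (rfl | hs)
      · rw [pow_two, hy2]; exact one_mem _
      · exact sq_map_mem (N.subgroupOf (W : Subgroup (GL (Fin 2) F))).subtype hker ⟨s, hs⟩
  · rw [← hS]; exact Nat.card_congr e.toEquiv

end Cfsg.Agent.SylTwo
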