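import Cfsg.Agent.Lib.SylTwo.Symplectic
import Cfsg.Prelude.Def_TwoFusion

/-!
Direct decomposability of the Sylow 2-subgroups of alternating groups.
-/

set_option autoImplicit false

namespace Cfsg.Agent.SylTwo

open Equiv
open scoped commutatorElement

/-- A nontrivial internal direct decomposition. -/
def Decomp (X : Type*) [Group X] : Prop :=
  ∃ A B : Subgroup X, A ≠ ⊥ ∧ B ≠ ⊥ ∧ (∀ a ∈ A, ∀ b ∈ B, a * b = b * a) ∧ A ⊓ B = ⊥ ∧ A ⊔ B = ⊤

theorem decomp_congr {X Y : Type*} [Group X] [Group Y] (e : X ≃* Y) (h : Decomp X) : Decomp Y := by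
  obtain ⟨A, B, hA, hB, hc, hi, hs⟩ := h
  refine ⟨A.map e.toMonoidHom, B.map e.toMonoidHom, ?_, ?_, ?_, ?_, ?_⟩
  · rw [Ne, Subgroup.map_eq_bot_iff_of_injective _ e.injective]; exact hA
  · rw [Ne, Subgroup.map_eq_bot_iff_of_injective _ e.injective]; exact hB
  · rintro _ ⟨a, ha, rfl⟩ _ ⟨b, hb, rfl⟩; rw [← map_mul, ← map_mul, hc a ha b hb]
  · rw [← Subgroup.map_inf _ _ _ e.injective, hi, Subgroup.map_bot]
  · rw [← Subgroup.map_sup, hs, Subgroup.map_top_of_surjective _ e.surjective]

theorem decomp_iff_internal {X : Type*} [Group X] (P : Subgroup X) :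
    (∃ S₁ S₂ : Subgroup X, S₁ ≠ ⊥ ∧ S₂ ≠ ⊥ ∧ Cfsg.IsInternalDirectProduct S₁ S₂ P) ↔
      Decomp ↥P := by
  constructor
  · rintro ⟨S₁, S₂, h1, h2, hl1, hl2, hc, hi, hs⟩
    refine ⟨S₁.subgroupOf P, S₂.subgroupOf P, ?_, ?_, ?_, ?_, ?_⟩
    · intro e; apply h1
      rw [← Subgroup.map_subgroupOf_eq_of_le hl1, e, Subgroup.map_bot]
    · intro e; apply h2
      rw [← Subgroup.map_subgroupOf_eq_of_le hl2, e, Subgroup.map_bot]
    · exact fun a ha b hb => Subtype.ext (hc a.1 ha b.1 hb)
    · refine eq_bot_iff.2 fun x hx => ?_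
      have : (x : X) ∈ S₁ ⊓ S₂ := ⟨hx.1, hx.2⟩
      rw [hi, Subgroup.mem_bot] at this
      exact Subgroup.mem_bot.2 (Subtype.ext this)
    · refine Subgroup.map_injective P.subtype_injective ?_
      rw [Subgroup.map_sup, Subgroup.map_subgroupOf_eq_of_le hl1,
        Subgroup.map_subgroupOf_eq_of_le hl2, ← MonoidHom.range_eq_map, Subgroup.range_subtype, hs]
  · rintro ⟨A, B, hA, hB, hc, hi, hs⟩
    refine ⟨A.map P.subtype, B.map P.subtype, ?_, ?_, Subgroup.map_subtype_le _,
      Subgroup.map_subtype_le _, ?_, ?_, ?_⟩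
    · rw [Ne, Subgroup.map_eq_bot_iff_of_injective _ P.subtype_injective]; exact hA
    · rw [Ne, Subgroup.map_eq_bot_iff_of_injective _ P.subtype_injective]; exact hB
    · rintro _ ⟨a, ha, rfl⟩ _ ⟨b, hb, rfl⟩; exact congrArg Subtype.val (hc a ha b hb)
    · rw [← Subgroup.map_inf _ _ _ P.subtype_injective, hi, Subgroup.map_bot]
    · rw [← Subgroup.map_sup, hs, ← MonoidHom.range_eq_map, Subgroup.range_subtype]

/-- A 2-group with only one central involution is indecomposable. -/
theorem not_decomp_of_center {X : Type*} [Group X] [Finite X] (hX : IsPGroup 2 X)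
    (h : ∀ x y : X, x ∈ Subgroup.center X → y ∈ Subgroup.center X → x ≠ 1 → y ≠ 1 → x = y) :
    ¬ Decomp X := by
  haveI : Fact (Nat.Prime 2) := ⟨Nat.prime_two⟩
  rintro ⟨A, B, hA, hB, hc, hi, hs⟩
  have key : ∀ C D : Subgroup X, C ≠ ⊥ → (∀ a ∈ C, ∀ b ∈ D, a * b = b * a) → C ⊔ D = ⊤ →
      ∃ x ∈ C, x ≠ 1 ∧ x ∈ Subgroup.center X := by
    intro C D hC hcd hsup
    haveI : Nontrivial C := C.nontrivial_iff_ne_bot.2 hC
    haveI := (hX.to_subgroup C).center_nontrivial
    obtain ⟨⟨z, hz⟩, hne⟩ := exists_ne (1 : Subgroup.center C)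
    refine ⟨z.1, z.2, fun e => hne (Subtype.ext (Subtype.ext e)), ?_⟩
    rw [Subgroup.mem_center_iff]
    have hle : C ⊔ D ≤ Subgroup.centralizer {z.1} := by
      refine sup_le (fun x hx => Subgroup.mem_centralizer_singleton_iff.2 ?_)
        (fun x hx => Subgroup.mem_centralizer_singleton_iff.2 ?_)
      · exact congrArg Subtype.val (Subgroup.mem_center_iff.1 hz ⟨x, hx⟩)
      · exact (hcd z.1 z.2 x hx).symm
    intro g
    exact Subgroup.mem_centralizer_singleton_iff.1 (hle (hsup ▸ Subgroup.mem_top g))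
  obtain ⟨x, hxA, hx1, hxc⟩ := key A B hA hc hs
  obtain ⟨y, hyB, hy1, hyc⟩ := key B A hB (fun b hb a ha => (hc a ha b hb).symm) (sup_comm A B ▸ hs)
  have : x ∈ A ⊓ B := ⟨hxA, h x y hxc hyc hx1 hy1 ▸ hyB⟩
  rw [hi, Subgroup.mem_bot] at this
  exact hx1 this

/-- What is used of a Sylow 2-subgroup of a symmetric group of degree `2 ^ a`, `a ≥ 2`. -/
structure Blk {G : Type*} [Group G] (sg : G →* ℤˣ) : Prop where
  center : ∃ z : G, z ≠ 1 ∧ z * z = 1 ∧ z ∈ Subgroup.center G ∧ sg z = 1 ∧
    (∀ x ∈ Subgroup.center G, x = 1 ∨ x = z) ∧ z ∈ commutator G ∧ ∃ g k : G, sg k = 1 ∧ ⁅g, k⁆ = z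
  odd : ∃ g, sg g = -1
  indec : ∀ A B : Subgroup G, (∀ a ∈ A, ∀ b ∈ B, a * b = b * a) → A ⊔ B = ⊤ →
    A ≤ Subgroup.center G ∨ B ≤ Subgroup.center G

variable {W : Type*} [Group W]

/-- The sign on `W ≀ C₂`. -/
def wrSign (sg : W →* ℤˣ) : Wr W (⊤ : Subgroup (Perm (Fin 2))) →* ℤˣ where
  toFun p := sg (p.left 0) * sg (p.left 1)
  map_one' := by simp
  map_mul' p r := by
    have h : ∀ σ : Perm (Fin 2), (σ 0 = 0 ∧ σ 1 = 1) ∨ (σ 0 = 1 ∧ σ 1 = 0) := by decide
    simp only [SemidirectProduct.mul_left, Pi.mul_apply, map_mul, wrAct_apply]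
    rcases h (p.right : Perm (Fin 2)).symm with ⟨h0, h1⟩ | ⟨h0, h1⟩ <;> rw [h0, h1]
    · exact mul_mul_mul_comm _ _ _ _
    · rw [mul_mul_mul_comm, mul_comm (sg (r.left 1))]

/-- The swap of the two halves. -/
def wrSwap : Wr W (⊤ : Subgroup (Perm (Fin 2))) :=
  SemidirectProduct.inr ⟨Equiv.swap 0 1, trivial⟩

theorem wrSwap_sign (sg : W →* ℤˣ) : wrSign sg wrSwap = 1 := by simp [wrSign, wrSwap]

theorem comm_sgl_swap (w : W) :
    ⁅(sgl 0 w : Wr W (⊤ : Subgroup (Perm (Fin 2)))), wrSwap⁆ =
      SemidirectProduct.inl ![w, w⁻¹] := by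
  rw [commutatorElement_def, mul_assoc (sgl 0 w) wrSwap _, mul_assoc (sgl 0 w), ← map_inv, wrSwap,
    inr_mul_sgl, show ((⟨Equiv.swap 0 1, trivial⟩ : (⊤ : Subgroup (Perm (Fin 2)))) : Perm (Fin 2)) 0
      = 1 from Equiv.swap_apply_left 0 1, sgl_apply, sgl_apply, ← map_mul]
  congr 1
  funext i
  fin_cases i <;> simp

theorem perm_fin_two (σ : Perm (Fin 2)) : σ = 1 ∨ σ = Equiv.swap 0 1 := by revert σ; decide

theorem eq_inl_or_swap (p : Wr W (⊤ : Subgroup (Perm (Fin 2)))) :
    p = SemidirectProduct.inl p.left ∨ p = SemidirectProduct.inl p.left * wrSwap := by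
  rcases perm_fin_two (p.right : Perm (Fin 2)) with h | h
  · exact Or.inl (SemidirectProduct.ext rfl (Subtype.ext h))
  · right
    refine SemidirectProduct.ext ?_ (Subtype.ext ?_)
    · simp [wrSwap]
    · simpa [wrSwap, SemidirectProduct.mul_right] using h

/-- Centralising an element outside the base determines one coordinate by the other. -/
theorem center_two (zW : W) (hz : zW ∈ Subgroup.center W) :
    SemidirectProduct.inl (fun _ => zW) ∈
      Subgroup.center (Wr W (⊤ : Subgroup (Perm (Fin 2)))) := by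
  rw [Subgroup.mem_center_iff]
  intro p
  refine SemidirectProduct.ext (funext fun i => ?_) ?_
  · simp [SemidirectProduct.mul_left, Subgroup.mem_center_iff.1 hz (p.left i)]
  · simp [SemidirectProduct.mul_right]

theorem w2_mul_left (p q : Wr W (⊤ : Subgroup (Perm (Fin 2)))) (i : Fin 2) :
    (p * q).left i = p.left i * q.left ((p.right : Perm (Fin 2)).symm i) := rfl

theorem w2_inv_left (p : Wr W (⊤ : Subgroup (Perm (Fin 2)))) (i : Fin 2) :
    p⁻¹.left i = (p.left ((p.right : Perm (Fin 2)) i))⁻¹ := by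
  rw [SemidirectProduct.inv_left]
  rfl

theorem blk_step [Finite W] (sg : W →* ℤˣ) (zW : W) (hz1 : zW ≠ 1) (hz2 : zW * zW = 1)
    (hzc : zW ∈ Subgroup.center W) (huniq : ∀ x ∈ Subgroup.center W, x = 1 ∨ x = zW)
    (hodd : ∃ g, sg g = -1) : Blk (wrSign sg) := by
  classical
  set z : (Wr W (⊤ : Subgroup (Perm (Fin 2)))) := SemidirectProduct.inl fun _ => zW with hz
  have hzc' : z ∈ Subgroup.center (Wr W (⊤ : Subgroup (Perm (Fin 2)))) := center_two zW hzc
  have hcomm : ⁅(sgl 0 zW : (Wr W (⊤ : Subgroup (Perm (Fin 2))))), wrSwap⁆ = z := by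
    rw [comm_sgl_swap, hz, inv_eq_of_mul_eq_one_left hz2]
    congr 1
    funext i; fin_cases i <;> rfl
  have hzne : z ≠ 1 := fun e => hz1 (congrFun (SemidirectProduct.inl_injective
    (e.trans (map_one _).symm)) 0)
  have hcent : ∀ x ∈ Subgroup.center (Wr W (⊤ : Subgroup (Perm (Fin 2)))), x = 1 ∨ x = z := by
    intro x hx
    have hx0 : x.right = 1 := by
      rcases perm_fin_two (x.right : Perm (Fin 2)) with h | h
      · exact Subtype.ext h
      · exfalso
        have h1 := congrArg (fun p : (Wr W (⊤ : Subgroup (Perm (Fin 2)))) => p.left 0) (Subgroup.mem_center_iff.1 hx (sgl 0 zW))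
        simp [sgl_apply, w2_mul_left, h, Equiv.Perm.one_def] at h1
        exact hz1 h1
    have hbase : ∀ i (w : W), w * x.left i = x.left i * w := by
      intro i w
      have h1 := congrArg (fun p : (Wr W (⊤ : Subgroup (Perm (Fin 2)))) => p.left i) (Subgroup.mem_center_iff.1 hx (sgl i w))
      simpa [sgl_apply, w2_mul_left, hx0, Equiv.Perm.one_def] using h1
    have h01 : x.left 0 = x.left 1 := by
      have h1 := congrArg (fun p : (Wr W (⊤ : Subgroup (Perm (Fin 2)))) => p.left 0) (Subgroup.mem_center_iff.1 hx wrSwap)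
      simpa [wrSwap, w2_mul_left] using h1.symm
    rcases huniq (x.left 0) (Subgroup.mem_center_iff.2 (hbase 0)) with h | h
    · left
      refine SemidirectProduct.ext (funext fun i => ?_) hx0
      fin_cases i
      · exact h
      · exact h01 ▸ h
    · right
      refine SemidirectProduct.ext (funext fun i => ?_) hx0
      fin_cases i
      · exact h
      · exact h01 ▸ h
  refine ⟨⟨z, hzne, by rw [hz, ← map_mul]; exact (congrArg _ (funext fun _ => hz2)).trans (map_one _),
    hzc', by simp [hz, wrSign, ← map_mul, hz2], hcent, ?_, sgl 0 zW, wrSwap, wrSwap_sign sg, hcomm⟩,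
    ?_, ?_⟩
  · rw [← hcomm, commutator_def]
    exact Subgroup.commutator_mem_commutator (Subgroup.mem_top _) (Subgroup.mem_top _)
  · obtain ⟨g, hg⟩ := hodd
    exact ⟨sgl 0 g, by simp [wrSign, sgl_apply, hg]⟩
  intro A B hAB hsup
  -- one factor outside the base forces the other, intersected with the base, to be central
  have key : ∀ C D : Subgroup (Wr W (⊤ : Subgroup (Perm (Fin 2)))), (∀ a ∈ C, ∀ b ∈ D, a * b = b * a) → C ⊔ D = ⊤ →
      (∃ c ∈ C, c.right ≠ 1) → ∀ d ∈ D, d.right = 1 → d ∈ Subgroup.center (Wr W (⊤ : Subgroup (Perm (Fin 2)))) := by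
    intro C D hCD hsupCD ⟨c, hc, hc1⟩ d hd hd1
    have hCn : ∀ g : (Wr W (⊤ : Subgroup (Perm (Fin 2)))), ∀ x ∈ C, g * x * g⁻¹ ∈ C := by
      intro g
      have hg : g ∈ Subgroup.normalizer (C : Set (Wr W (⊤ : Subgroup (Perm (Fin 2))))) := by
        have hle : C ⊔ D ≤ Subgroup.normalizer (C : Set (Wr W (⊤ : Subgroup (Perm (Fin 2))))) := by
          refine sup_le Subgroup.le_normalizer fun y hy => ?_
          rw [Subgroup.mem_normalizer_iff]
          intro x
          constructor
          · intro hx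
            rwa [← hCD x hx y hy, mul_inv_cancel_right]
          · intro hx
            have := hCD _ hx y hy
            rw [inv_mul_cancel_right] at this
            have hxx : x = y⁻¹ * (y * x * y⁻¹) * y := by group
            rw [hxx, mul_assoc, hCD _ hx y hy, ← mul_assoc, inv_mul_cancel, one_mul]
            exact hx
        exact hle (hsupCD ▸ Subgroup.mem_top g)
      exact fun x hx => (Subgroup.mem_normalizer_iff.1 hg x).1 hx
    have hσ : (c.right : Perm (Fin 2)) = Equiv.swap 0 1 :=
      (perm_fin_two _).resolve_left fun e => hc1 (Subtype.ext e)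
    have hD : d = SemidirectProduct.inl d.left := SemidirectProduct.ext rfl hd1
    -- d commutes with commutators of base elements with c
    have h0 : ∀ w : W, w * d.left 0 = d.left 0 * w := by
      intro w
      have hm : sgl 0 w * c * (sgl 0 w)⁻¹ * c⁻¹ ∈ C :=
        mul_mem (hCn _ c hc) (inv_mem hc)
      have h1 := congrArg (fun p : (Wr W (⊤ : Subgroup (Perm (Fin 2)))) => p.left 0) (hCD _ hm d hd)
      have hval : (sgl 0 w * c * (sgl 0 w)⁻¹ * c⁻¹ : (Wr W (⊤ : Subgroup (Perm (Fin 2))))) =
          SemidirectProduct.inl ![w, c.left 1 * w⁻¹ * (c.left 1)⁻¹] := by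
        refine SemidirectProduct.ext (funext fun i => ?_) ?_
        · fin_cases i <;>
            simp [sgl_apply, w2_mul_left, SemidirectProduct.mul_right,
              w2_inv_left, hσ, Equiv.Perm.one_def, ← Pi.mulSingle_inv]
        · simp [sgl_apply, SemidirectProduct.mul_right]
      rw [hval, hD] at h1
      simpa [w2_mul_left, Equiv.Perm.one_def] using h1
    have h1 : ∀ w : W, w * d.left 1 = d.left 1 * w := by
      intro w
      have hm : sgl 1 w * c * (sgl 1 w)⁻¹ * c⁻¹ ∈ C :=
        mul_mem (hCn _ c hc) (inv_mem hc)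
      have h1 := congrArg (fun p : (Wr W (⊤ : Subgroup (Perm (Fin 2)))) => p.left 1) (hCD _ hm d hd)
      have hval : (sgl 1 w * c * (sgl 1 w)⁻¹ * c⁻¹ : (Wr W (⊤ : Subgroup (Perm (Fin 2))))) =
          SemidirectProduct.inl ![c.left 0 * w⁻¹ * (c.left 0)⁻¹, w] := by
        refine SemidirectProduct.ext (funext fun i => ?_) ?_
        · fin_cases i <;>
            simp [sgl_apply, w2_mul_left, SemidirectProduct.mul_right,
              w2_inv_left, hσ, Equiv.Perm.one_def, ← Pi.mulSingle_inv]
        · simp [sgl_apply, SemidirectProduct.mul_right]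
      rw [hval, hD] at h1
      simpa [w2_mul_left, Equiv.Perm.one_def] using h1
    have he : d.left 0 = d.left 1 := by
      have h2 := congrArg (fun p : (Wr W (⊤ : Subgroup (Perm (Fin 2)))) => p.left 0) (hCD c hc d hd)
      rw [hD] at h2
      simp [w2_mul_left, hσ, Equiv.Perm.one_def] at h2
      rw [← h0 (c.left 0)] at h2
      exact (mul_left_cancel h2).symm
    rw [hD, show d.left = fun _ => d.left 0 from funext fun i => by fin_cases i <;> simp [he]]
    exact center_two _ (Subgroup.mem_center_iff.2 h0)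
  by_cases hA : ∀ a ∈ A, a.right = 1
  · by_cases hB : ∀ b ∈ B, b.right = 1
    · exfalso
      have hle : A ⊔ B ≤ (SemidirectProduct.rightHom : (Wr W (⊤ : Subgroup (Perm (Fin 2)))) →* _).ker :=
        sup_le (fun a ha => MonoidHom.mem_ker.2 (hA a ha)) (fun b hb => MonoidHom.mem_ker.2 (hB b hb))
      have := congrArg Subtype.val (MonoidHom.mem_ker.1 (hle (hsup ▸ Subgroup.mem_top (wrSwap : (Wr W (⊤ : Subgroup (Perm (Fin 2))))))))
      simp [wrSwap] at this
    · push Not at hB
      exact Or.inl fun a ha => key B A (fun b hb x hx => (hAB x hx b hb).symm) (sup_comm A B ▸ hsup)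
        hB a ha (hA a ha)
  · push Not at hA
    by_cases hB : ∀ b ∈ B, b.right = 1
    · exact Or.inr fun b hb => key A B hAB hsup hA b hb (hB b hb)
    · exfalso
      push Not at hB
      -- both factors are abelian, so the group would be abelian
      have hab : ∀ C : Subgroup (Wr W (⊤ : Subgroup (Perm (Fin 2)))), (∀ c ∈ C, c.right = 1 → c ∈ Subgroup.center (Wr W (⊤ : Subgroup (Perm (Fin 2))))) →
          ∀ x ∈ C, ∀ y ∈ C, x * y = y * x := by
        intro C hC x hx y hy
        by_cases hxr : x.right = 1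
        · exact (Subgroup.mem_center_iff.1 (hC x hx hxr) y).symm
        · by_cases hyr : y.right = 1
          · exact Subgroup.mem_center_iff.1 (hC y hy hyr) x
          · have hxy : (x⁻¹ * y).right = 1 := by
              have hx' := (perm_fin_two (x.right : Perm (Fin 2))).resolve_left fun e => hxr (Subtype.ext e)
              have hy' := (perm_fin_two (y.right : Perm (Fin 2))).resolve_left fun e => hyr (Subtype.ext e)
              rw [SemidirectProduct.mul_right, SemidirectProduct.inv_right,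
                show x.right = y.right from Subtype.ext (hx'.trans hy'.symm), inv_mul_cancel]
            have hcz := Subgroup.mem_center_iff.1 (hC _ (mul_mem (inv_mem hx) hy) hxy) x
            calc x * y = x * (x * (x⁻¹ * y)) := by group
              _ = x * ((x⁻¹ * y) * x) := by rw [hcz]
              _ = y * x := by group
      have hAc := hab A fun c hc h => key B A (fun b hb x hx => (hAB x hx b hb).symm)
        (sup_comm A B ▸ hsup) hB c hc h
      have hBc := hab B fun c hc h => key A B hAB hsup hA c hc h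
      have hAz : A ⊔ B ≤ Subgroup.center (Wr W (⊤ : Subgroup (Perm (Fin 2)))) := by
        refine sup_le (fun a ha => ?_) (fun b hb => ?_)
        · rw [Subgroup.mem_center_iff]
          have hle : A ⊔ B ≤ Subgroup.centralizer {a} := sup_le
            (fun x hx => Subgroup.mem_centralizer_singleton_iff.2 (hAc x hx a ha))
            (fun x hx => Subgroup.mem_centralizer_singleton_iff.2 (hAB a ha x hx).symm)
          exact fun g => Subgroup.mem_centralizer_singleton_iff.1 (hle (hsup ▸ Subgroup.mem_top g))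
        · rw [Subgroup.mem_center_iff]
          have hle : A ⊔ B ≤ Subgroup.centralizer {b} := sup_le
            (fun x hx => Subgroup.mem_centralizer_singleton_iff.2 (hAB x hx b hb))
            (fun x hx => Subgroup.mem_centralizer_singleton_iff.2 (hBc x hx b hb))
          exact fun g => Subgroup.mem_centralizer_singleton_iff.1 (hle (hsup ▸ Subgroup.mem_top g))
      apply hzne
      rw [← hcomm, commutatorElement_eq_one_iff_mul_comm]
      exact (Subgroup.mem_center_iff.1 (hAz (hsup ▸ Subgroup.mem_top (sgl 0 zW : (Wr W (⊤ : Subgroup (Perm (Fin 2))))))) wrSwap).symm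

/-- The centre of the even part of `W ≀ C₂`. -/
theorem center_even_unique [Finite W] (sg : W →* ℤˣ) (zW : W) (hz1 : zW ≠ 1) (hze : sg zW = 1)
    (huniq : ∀ x ∈ Subgroup.center W, x = 1 ∨ x = zW) (x y : ↥(wrSign sg).ker)
    (hx : x ∈ Subgroup.center ↥(wrSign sg).ker) (hy : y ∈ Subgroup.center ↥(wrSign sg).ker)
    (hx1 : x ≠ 1) (hy1 : y ≠ 1) : x = y := by
  classical
  suffices h : ∀ x ∈ Subgroup.center ↥(wrSign sg).ker, x ≠ 1 →
      x.1 = SemidirectProduct.inl fun _ => zW from Subtype.ext ((h x hx hx1).trans (h y hy hy1).symm)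
  intro x hx hx1
  have hcomm : ∀ p : Wr W (⊤ : Subgroup (Perm (Fin 2))), wrSign sg p = 1 → p * x.1 = x.1 * p :=
    fun p hp => congrArg Subtype.val (Subgroup.mem_center_iff.1 hx ⟨p, hp⟩)
  have hr : x.1.right = 1 := by
    rcases perm_fin_two (x.1.right : Perm (Fin 2)) with h | h
    · exact Subtype.ext h
    · exfalso
      have h1 := congrArg (fun p : Wr W (⊤ : Subgroup (Perm (Fin 2))) => p.left 0)
        (hcomm (sgl 0 zW) (by simp [wrSign, sgl_apply, hze]))
      simp [sgl_apply, w2_mul_left, h, Equiv.Perm.one_def] at h1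
      exact hz1 h1
  have h01 : x.1.left 0 = x.1.left 1 := by
    have h1 := congrArg (fun p : Wr W (⊤ : Subgroup (Perm (Fin 2))) => p.left 0) (hcomm wrSwap (wrSwap_sign sg))
    simpa [wrSwap, w2_mul_left] using h1.symm
  have hc : x.1.left 0 ∈ Subgroup.center W := by
    rw [Subgroup.mem_center_iff]
    intro w
    have h1 := congrArg (fun p : Wr W (⊤ : Subgroup (Perm (Fin 2))) => p.left 0)
      (hcomm (SemidirectProduct.inl fun _ => w) (by simp [wrSign, Int.units_mul_self]))
    simpa [w2_mul_left, hr, Equiv.Perm.one_def] using h1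
  rcases huniq _ hc with h | h
  · exfalso
    refine hx1 (Subtype.ext (SemidirectProduct.ext (funext fun i => ?_) hr))
    fin_cases i
    · exact h
    · exact h01 ▸ h
  · refine SemidirectProduct.ext (funext fun i => ?_) hr
    fin_cases i
    · exact h
    · exact h01 ▸ h

/-! ### Realisation by permutations -/

theorem sign_prodCongr_right {α β : Type} [Fintype α] [DecidableEq α] [Fintype β] [DecidableEq β]
    (σ : α → Perm β) : Perm.sign (Equiv.prodCongrRight σ) = ∏ a, Perm.sign (σ a) :=
  Equiv.Perm.sign_prodCongrRight σ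

/-- A Sylow 2-subgroup of `S_{2^(a+1)}` from one of `S_{2^a}`. -/
def wrStep (a : ℕ) (T : Subgroup (Perm (Fin (2 ^ a)))) :
    Wr T (⊤ : Subgroup (Perm (Fin 2))) →* Perm (Fin (2 ^ (a + 1))) :=
  ((finProdFinEquiv.trans (finCongr (by rw [pow_succ, mul_comm]) :
      Fin (2 * 2 ^ a) ≃ Fin (2 ^ (a + 1)))).permCongrHom.toMonoidHom).comp
    ((wrPerm ⊤).comp (wrMap T.subtype le_rfl))

theorem wrStep_injective (a : ℕ) (T : Subgroup (Perm (Fin (2 ^ a)))) :
    Function.Injective (wrStep a T) := by
  haveI : Nonempty (Fin (2 ^ a)) := ⟨⟨0, by positivity⟩⟩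
  intro x y h
  exact wrMap_injective (f := T.subtype) Subtype.coe_injective le_rfl
    (wrPerm_injective _ ((Equiv.permCongrHom _).injective h))

theorem sign_wrStep (a : ℕ) (ha : 1 ≤ a) (T : Subgroup (Perm (Fin (2 ^ a))))
    (p : Wr T (⊤ : Subgroup (Perm (Fin 2)))) :
    Perm.sign (wrStep a T p) = wrSign (Perm.sign.comp T.subtype) p := by
  have hperm : wrPerm (⊤ : Subgroup (Perm (Fin 2))) (wrMap T.subtype le_rfl p) =
      Equiv.prodCongrRight (fun i => ((p.left i : T) : Perm (Fin (2 ^ a)))) *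
        Equiv.prodCongrLeft (fun _ : Fin (2 ^ a) => (p.right : Perm (Fin 2))) := by
    refine Equiv.ext fun z => ?_
    rfl
  show Perm.sign ((Equiv.permCongrHom _) _) = _
  rw [Equiv.permCongrHom_coe, Equiv.Perm.sign_permCongr]
  show Perm.sign (wrPerm _ (wrMap T.subtype le_rfl p)) = _
  have hu : ∀ u : ℤˣ, u ^ (2 ^ a) = 1 := fun u => by
    rw [show 2 ^ a = 2 * 2 ^ (a - 1) by rw [← pow_succ']; congr 1; omega, pow_mul, Int.units_sq,
      one_pow]
  rw [hperm, map_mul, Equiv.Perm.sign_prodCongrRight, Equiv.Perm.sign_prodCongrLeft,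
    Fin.prod_univ_two, Finset.prod_const, Finset.card_univ, Fintype.card_fin, hu, mul_one]
  rfl

theorem factorization_factorial_two_pow (a : ℕ) :
    (2 ^ (a + 1)).factorial.factorization 2 = 2 * (2 ^ a).factorial.factorization 2 + 1 := by
  haveI : Fact (Nat.Prime 2) := ⟨Nat.prime_two⟩
  have key : ∀ k, (2 ^ k).factorial.factorization 2 = 2 ^ k - 1 := by
    intro k
    induction k with
    | zero => simp
    | succ k ih =>
      rw [Nat.factorization_def _ Nat.prime_two] at ih ⊢
      rw [pow_succ', padicValNat_factorial_mul, ih]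
      have := Nat.one_le_two_pow (n := k)
      omega
  rw [key, key]
  have := Nat.one_le_two_pow (n := a)
  rw [pow_succ]
  omega

/-- A Sylow 2-subgroup of `S_{2^a}` with its distinguished central involution. -/
theorem exists_block (a : ℕ) (ha : 1 ≤ a) :
    ∃ T : Subgroup (Perm (Fin (2 ^ a))), Nat.card T = 2 ^ (2 ^ a).factorial.factorization 2 ∧
      (2 ≤ a → Blk (Perm.sign.comp T.subtype)) ∧
      (3 ≤ a → ∀ x y : ↥(Perm.sign.comp T.subtype).ker,
        x ∈ Subgroup.center ↥(Perm.sign.comp T.subtype).ker →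
        y ∈ Subgroup.center ↥(Perm.sign.comp T.subtype).ker → x ≠ 1 → y ≠ 1 → x = y) ∧
      (∃ g : T, Perm.sign (g : Perm (Fin (2 ^ a))) = -1) ∧
      ∃ z : T, z ≠ 1 ∧ z * z = 1 ∧ z ∈ Subgroup.center T ∧
        (2 ≤ a → Perm.sign (z : Perm (Fin (2 ^ a))) = 1) ∧
        ∀ x ∈ Subgroup.center T, x = 1 ∨ x = z := by
  induction a, ha using Nat.le_induction with
  | base =>
    refine ⟨⊤, ?_, fun h => absurd h (by norm_num), fun h => absurd h (by norm_num),
      ⟨⟨Equiv.swap 0 1, trivial⟩, by decide⟩, ⟨Equiv.swap 0 1, trivial⟩, by decide, by decide, ?_,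
      fun h => absurd h (by norm_num), ?_⟩
    · rw [Subgroup.card_top, Nat.card_perm, Nat.card_eq_fintype_card, Fintype.card_fin]
      simp [Nat.prime_two.factorization_self]
    · rw [Subgroup.mem_center_iff]
      exact fun g => Subtype.ext ((by decide :
        ∀ g h : Perm (Fin (2 ^ 1)), g * h = h * g) g.1 _)
    · intro x _
      exact ((by decide : ∀ x : Perm (Fin (2 ^ 1)), x = 1 ∨ x = Equiv.swap 0 1) x.1).imp
        (fun h => Subtype.ext h) (fun h => Subtype.ext h)
  | succ a ha ih =>
    obtain ⟨T, hT, -, -, ⟨g, hg⟩, zW, hz1, hz2, hzc, hze, huniq⟩ := ih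
    let f := wrStep a T
    have hf := wrStep_injective a T
    let e := MonoidHom.ofInjective hf
    have hsg : (Perm.sign.comp f.range.subtype).comp e.toMonoidHom =
        wrSign (Perm.sign.comp T.subtype) := MonoidHom.ext fun p => sign_wrStep a ha T p
    obtain ⟨⟨z, h1, h2, h3, h4, h5, h6, u, k, hk, huk⟩, ⟨o, ho⟩, hind⟩ :=
      blk_step (Perm.sign.comp T.subtype) zW hz1 hz2 hzc huniq
        ⟨g, by simpa using hg⟩
    have hs : ∀ p, Perm.sign ((e p : f.range) : Perm (Fin (2 ^ (a + 1)))) =
        wrSign (Perm.sign.comp T.subtype) p := sign_wrStep a ha T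
    have hcen : ∀ x, x ∈ Subgroup.center f.range ↔ e.symm x ∈ Subgroup.center _ := by
      intro x
      rw [Subgroup.mem_center_iff, Subgroup.mem_center_iff]
      constructor
      · intro h y
        apply e.injective
        rw [map_mul, map_mul, e.apply_symm_apply]
        exact h (e y)
      · intro h y
        apply e.symm.injective
        rw [map_mul, map_mul]
        exact h (e.symm y)
    refine ⟨f.range, ?_, fun _ => ⟨⟨e z, ?_, by rw [← map_mul, h2, map_one],
      (hcen _).2 (by rwa [e.symm_apply_apply]), (hs z).trans h4, ?_,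
      map_mem_commutator e.toMonoidHom h6, e u, e k, (hs k).trans hk,
      by rw [← huk, map_commutatorElement]⟩, ⟨e o, (hs o).trans ho⟩, ?_⟩, ?_,
      ⟨e o, (hs o).trans ho⟩, e z, ?_, by rw [← map_mul, h2, map_one],
      (hcen _).2 (by rwa [e.symm_apply_apply]), fun _ => (hs z).trans h4, ?_⟩
    · rw [← Nat.card_congr e.toEquiv, card_wr, hT, Subgroup.card_top, card_perm_fin_two,
        Fintype.card_fin, factorization_factorial_two_pow, ← pow_mul, ← pow_succ, mul_comm]
    · exact fun h => h1 (e.injective (h.trans (map_one e).symm))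
    · intro x hx
      rcases h5 _ ((hcen x).1 hx) with h | h
      · left; rw [← e.apply_symm_apply x, h, map_one]
      · right; rw [← e.apply_symm_apply x, h]
    · intro A B hAB hsup
      rcases hind (A.map e.symm.toMonoidHom) (B.map e.symm.toMonoidHom)
        (by rintro _ ⟨x, hx, rfl⟩ _ ⟨y, hy, rfl⟩; rw [← map_mul, ← map_mul, hAB x hx y hy])
        (by rw [← Subgroup.map_sup, hsup, Subgroup.map_top_of_surjective _ e.symm.surjective]) with h | h
      · exact Or.inl fun x hx => (hcen x).2 (h ⟨x, hx, rfl⟩)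
      · exact Or.inr fun x hx => (hcen x).2 (h ⟨x, hx, rfl⟩)
    · intro ha3
      let sT := Perm.sign.comp T.subtype
      let ψ : ↥(wrSign sT).ker ≃* ↥(Perm.sign.comp f.range.subtype).ker :=
        (e.subgroupMap (wrSign sT).ker).trans (MulEquiv.subgroupCongr (by
          refine Subgroup.ext fun x => ⟨?_, fun hx => ?_⟩
          · rintro ⟨p, hp, rfl⟩
            exact MonoidHom.mem_ker.2 ((hs p).trans hp)
          · refine ⟨e.symm x, ?_, e.apply_symm_apply x⟩
            show wrSign sT (e.symm x) = 1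
            rw [← hs, e.apply_symm_apply]
            exact hx))
      intro x y hx hy hx1 hy1
      have hc : ∀ w, w ∈ Subgroup.center ↥(Perm.sign.comp f.range.subtype).ker →
          ψ.symm w ∈ Subgroup.center ↥(wrSign sT).ker := by
        intro w hw
        rw [Subgroup.mem_center_iff] at hw ⊢
        intro v
        apply ψ.injective
        rw [map_mul, map_mul, ψ.apply_symm_apply]
        exact hw (ψ v)
      refine ψ.symm.injective (center_even_unique sT zW hz1 (hze (by omega)) huniq _ _
        (hc x hx) (hc y hy) ?_ ?_)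
      · exact fun h => hx1 (ψ.symm.injective (h.trans (map_one ψ.symm).symm))
      · exact fun h => hy1 (ψ.symm.injective (h.trans (map_one ψ.symm).symm))
    · exact fun h => h1 (e.injective (h.trans (map_one e).symm))
    · intro x hx
      rcases h5 _ ((hcen x).1 hx) with h | h
      · left; rw [← e.apply_symm_apply x, h, map_one]
      · right; rw [← e.apply_symm_apply x, h]

theorem factorization_factorial_add : ∀ (a R : ℕ), R < 2 ^ a →
    (2 ^ a + R).factorial.factorization 2 =
      (2 ^ a).factorial.factorization 2 + R.factorial.factorization 2 := by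
  haveI : Fact (Nat.Prime 2) := ⟨Nat.prime_two⟩
  intro a
  induction a with
  | zero => intro R hR; interval_cases R; simp
  | succ a ih =>
    intro R hR
    have hR' : R / 2 < 2 ^ a := by rw [pow_succ] at hR; omega
    simp only [Nat.factorization_def _ Nat.prime_two] at ih ⊢
    rw [← padicValNat_mul_div_factorial (2 ^ (a + 1) + R), ← padicValNat_mul_div_factorial R,
      show (2 ^ (a + 1) + R) / 2 = 2 ^ a + R / 2 by rw [pow_succ]; omega, pow_succ',
      padicValNat_factorial_mul, padicValNat_factorial_mul, padicValNat_factorial_mul, ih _ hR']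
    omega

/-- The binary expansion of a multiple of four. -/
theorem exists_exponents : ∀ m : ℕ, 4 ∣ m →
    ∃ (r : ℕ) (a : Fin r → ℕ), (∀ i, 2 ≤ a i) ∧ ∑ i, 2 ^ a i = m ∧
      m.factorial.factorization 2 = ∑ i, (2 ^ a i).factorial.factorization 2 ∧
      ((r = 0 ↔ m = 0) ∧ (r = 1 ↔ ∃ s, m = 2 ^ s)) := by
  intro m
  induction m using Nat.strong_induction_on with
  | _ m ih =>
  intro hm
  rcases Nat.eq_zero_or_pos m with rfl | hpos
  · refine ⟨0, Fin.elim0, fun i => i.elim0, by simp, by simp, by simp, ?_⟩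
    constructor
    · intro h; omega
    · rintro ⟨s, hs⟩; exact absurd hs.symm (pow_ne_zero _ two_ne_zero)
  obtain ⟨a0, ha0⟩ : ∃ a0, a0 = Nat.log 2 m := ⟨_, rfl⟩
  have hle : 2 ^ a0 ≤ m := ha0 ▸ Nat.pow_log_le_self 2 (by omega)
  have hlt : m < 2 ^ (a0 + 1) := ha0 ▸ Nat.lt_pow_succ_log_self one_lt_two m
  have ha2 : 2 ≤ a0 := by
    rw [ha0]
    refine Nat.le_log_of_pow_le one_lt_two ?_
    obtain ⟨c, hc⟩ := hm
    omega
  obtain ⟨R, hR⟩ : ∃ R, R = m - 2 ^ a0 := ⟨_, rfl⟩
  have hRlt : R < 2 ^ a0 := by rw [pow_succ] at hlt; omega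
  have hR4 : 4 ∣ R := by
    rw [hR]
    refine Nat.dvd_sub hm ?_
    calc 4 = 2 ^ 2 := rfl
      _ ∣ 2 ^ a0 := Nat.pow_dvd_pow 2 ha2
  obtain ⟨r, a, h1, h2, h3, h4, -⟩ := ih R (by
    have := Nat.two_pow_pos a0
    omega) hR4
  refine ⟨r + 1, Fin.cons a0 a, ?_, ?_, ?_, by simp; omega, ?_⟩
  · intro i; cases i using Fin.cases with
    | zero => simpa
    | succ i => simpa using h1 i
  · rw [Fin.sum_univ_succ]; simp only [Fin.cons_zero, Fin.cons_succ, h2]
    clear hR4; omega
  · rw [Fin.sum_univ_succ]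
    simp only [Fin.cons_zero, Fin.cons_succ]
    rw [← h3, ← factorization_factorial_add a0 R hRlt,
      show 2 ^ a0 + R = m by clear hR4; omega]
  · constructor
    · intro h
      have : R = 0 := h4.1 (by omega)
      exact ⟨a0, by omega⟩
    · rintro ⟨s, hs⟩
      have hs0 : s = a0 := by rw [ha0, hs, Nat.log_pow one_lt_two]
      have : R = 0 := by rw [hR, hs, hs0]; omega
      have := h4.2 this
      omega

/-- Blocks side by side. -/
def sigmaHom {ι : Type} {β : ι → Type} (T : ∀ i, Subgroup (Perm (β i))) :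
    (∀ i, T i) →* Perm (Σ i, β i) where
  toFun x := Equiv.sigmaCongrRight fun i => (x i : Perm (β i))
  map_one' := by ext ⟨i, b⟩ <;> rfl
  map_mul' x y := by ext ⟨i, b⟩ <;> rfl

theorem sigmaHom_injective {ι : Type} {β : ι → Type} (T : ∀ i, Subgroup (Perm (β i))) :
    Function.Injective (sigmaHom T) := by
  intro x y h
  funext i
  refine Subtype.ext (Equiv.ext fun b => ?_)
  have := Equiv.congr_fun h ⟨i, b⟩
  simpa [sigmaHom] using this

theorem sign_sigma_right {ι : Type} [Fintype ι] [DecidableEq ι] {β : ι → Type} [∀ i, Fintype (β i)]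
    [∀ i, DecidableEq (β i)] (F : ∀ i, Perm (β i)) :
    Perm.sign (Equiv.sigmaCongrRight F) = ∏ i, Perm.sign (F i) := by
  let f := Perm.sign.comp (Equiv.Perm.sigmaCongrRightHom β)
  let g : (∀ i, Perm (β i)) →* ℤˣ :=
    MonoidHom.mk' (fun F => ∏ i, Perm.sign (F i)) fun x y => by simp [Finset.prod_mul_distrib]
  show F ∈ f.eqLocus g
  refine Subgroup.pi_mem_of_mulSingle_mem F fun i => ?_
  generalize F i = σ
  show f (Pi.mulSingle i σ) = g (Pi.mulSingle i σ)
  have hg : g (Pi.mulSingle i σ) = Perm.sign σ := by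
    show ∏ l, Perm.sign ((Pi.mulSingle i σ : ∀ l, Perm (β l)) l) = _
    rw [Finset.prod_eq_single i (fun l _ hl => by simp [hl]) (by simp), Pi.mulSingle_eq_same]
  rw [hg]
  induction σ using Equiv.Perm.swap_induction_on with
  | one => rw [Pi.mulSingle_one, map_one, map_one]
  | swap_mul σ x y hxy ih =>
    rw [Pi.mulSingle_mul, map_mul, map_mul, ih (by
      show ∏ l, Perm.sign ((Pi.mulSingle i σ : ∀ l, Perm (β l)) l) = _
      rw [Finset.prod_eq_single i (fun l _ hl => by simp [hl]) (by simp), Pi.mulSingle_eq_same])]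
    congr 1
    have : Equiv.sigmaCongrRight (Pi.mulSingle i (Equiv.swap x y)) =
        Equiv.swap (⟨i, x⟩ : Σ l, β l) ⟨i, y⟩ := by
      refine Equiv.ext fun ⟨l, b⟩ => ?_
      by_cases hl : l = i
      · subst hl
        simp [Equiv.swap_apply_def]
        split_ifs <;> simp_all
      · rw [Equiv.swap_apply_of_ne_of_ne (fun e => hl (congrArg Sigma.fst e))
          (fun e => hl (congrArg Sigma.fst e))]
        simp [hl]
    show Perm.sign (Equiv.sigmaCongrRight _) = _
    rw [this, Equiv.Perm.sign_swap hxy, Equiv.Perm.sign_swap (fun e => hxy (by simpa using e))]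

theorem card_alternating_factorization {n : ℕ} (hn : 2 ≤ n) :
    n.factorial.factorization 2 = 1 + (Nat.card (alternatingGroup (Fin n))).factorization 2 := by
  haveI : Nontrivial (Fin n) := Fin.nontrivial_iff_two_le.2 hn
  have h := two_mul_card_alternatingGroup (α := Fin n)
  rw [Fintype.card_perm, Fintype.card_fin] at h
  rw [← h, ← Nat.card_eq_fintype_card, Nat.factorization_mul two_ne_zero Nat.card_pos.ne',
    Finsupp.add_apply, Nat.prime_two.factorization_self]

theorem factorization_factorial_four {m r : ℕ} (hm : 4 ∣ m) (hr : r < 4) :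
    (m + r).factorial.factorization 2 = m.factorial.factorization 2 + r / 2 := by
  obtain ⟨c, rfl⟩ := hm
  have step : ∀ N : ℕ, (N + 1).factorial.factorization 2 =
      (N + 1).factorization 2 + N.factorial.factorization 2 := fun N => by
    rw [Nat.factorial_succ, Nat.factorization_mul (by omega) (Nat.factorial_ne_zero N),
      Finsupp.add_apply]
  have hodd : ∀ N : ℕ, N % 2 = 1 → N.factorization 2 = 0 := fun N hN =>
    Nat.factorization_eq_zero_of_not_dvd (by omega)
  have hone : (4 * c + 2).factorization 2 = 1 := by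
    rw [show 4 * c + 2 = 2 * (2 * c + 1) by ring, Nat.factorization_mul two_ne_zero (by omega),
      Finsupp.add_apply, Nat.prime_two.factorization_self, hodd _ (by omega)]
  interval_cases r
  · simp
  · rw [step, hodd _ (by omega)]; simp
  · rw [show 4 * c + 2 = 4 * c + 1 + 1 by ring, step, step, hodd (4 * c + 1) (by omega),
      show 4 * c + 1 + 1 = 4 * c + 2 by ring, hone]
    simp; ring
  · rw [show 4 * c + 3 = 4 * c + 1 + 1 + 1 by ring, step, step, step, hodd (4 * c + 1) (by omega),
      hodd (4 * c + 1 + 1 + 1) (by omega), show 4 * c + 1 + 1 = 4 * c + 2 by ring, hone]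
    simp; ring

theorem commutator_le_of_sup {X : Type} [Group X] {A B : Subgroup X}
    (hs : A ⊔ B = ⊤) (hA : A ≤ Subgroup.center X) :
    commutator X ≤ B := by
  rw [commutator_def, Subgroup.commutator_le]
  intro x _ y _
  have hd : ∀ g : X, ∃ a ∈ A, ∃ b ∈ B, g = a * b := by
    intro g
    haveI : A.Normal := ⟨fun a ha g => by rw [Subgroup.mem_center_iff.1 (hA ha) g, mul_inv_cancel_right]; exact ha⟩
    obtain ⟨a, ha, b, hb, h⟩ := Subgroup.mem_sup_of_normal_left.1 (hs ▸ Subgroup.mem_top g : g ∈ A ⊔ B)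
    exact ⟨a, ha, b, hb, h.symm⟩
  obtain ⟨a, ha, b, hb, rfl⟩ := hd x
  obtain ⟨a', ha', b', hb', rfl⟩ := hd y
  have h1 := fun g => Subgroup.mem_center_iff.1 (hA ha) g
  have h2 := fun g => Subgroup.mem_center_iff.1 (hA ha') g
  have : ⁅a * b, a' * b'⁆ = ⁅b, b'⁆ := by
    simp only [commutatorElement_def, mul_inv_rev]
    calc a * b * (a' * b') * (b⁻¹ * a⁻¹) * (b'⁻¹ * a'⁻¹)
        = a * (b * a') * b' * b⁻¹ * (a⁻¹ * b'⁻¹) * a'⁻¹ := by group
      _ = a * (a' * b) * b' * b⁻¹ * (b'⁻¹ * a⁻¹) * a'⁻¹ := by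
          rw [h2 b, show a⁻¹ * b'⁻¹ = b'⁻¹ * a⁻¹ by
            rw [← mul_inv_rev, ← mul_inv_rev, h1 b']]
      _ = (a * a') * (b * b' * b⁻¹ * b'⁻¹) * (a' * a)⁻¹ := by group
      _ = _ := by
          rw [← h1 a']
          have hz : a' * a ∈ Subgroup.center X := mul_mem (hA ha') (hA ha)
          rw [← Subgroup.mem_center_iff.1 hz (b * b' * b⁻¹ * b'⁻¹), mul_inv_cancel_right]
  rw [this]
  exact Subgroup.mul_mem _ (Subgroup.mul_mem _ (Subgroup.mul_mem _ hb hb') (inv_mem hb)) (inv_mem hb')

theorem not_decomp_even {r : ℕ} (hr : 2 ≤ r) {G : Fin r → Type} [∀ i, Group (G i)]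
    (sg : ∀ i, G i →* ℤˣ) (hB : ∀ i, Blk (sg i)) (tot : (∀ i, G i) →* ℤˣ)
    (htot : ∀ x, tot x = ∏ i, sg i (x i)) : ¬ Decomp ↥tot.ker := by
  classical
  choose z hz1 hz2 hzc hzs hzu hzcm g k hk hgk using fun i => (hB i).center
  choose o ho using fun i => (hB i).odd
  haveI : Nontrivial (Fin r) := Fin.nontrivial_iff_two_le.2 hr
  have hpair : ∀ (i j : Fin r), i ≠ j → ∀ (a : G i) (b : G j), sg i a * sg j b = 1 →
      (Pi.mulSingle i a * Pi.mulSingle j b : ∀ i, G i) ∈ tot.ker := by
    intro i j hij a b hab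
    rw [MonoidHom.mem_ker, htot, ← Finset.prod_subset (Finset.subset_univ ({i, j} : Finset (Fin r)))]
    · rw [Finset.prod_pair hij]
      simp [hij, Ne.symm hij, hab]
    · intro l _ hl
      simp at hl
      simp [hl.1, hl.2]
  have hsgl : ∀ i (a : G i), sg i a = 1 → (Pi.mulSingle i a : ∀ i, G i) ∈ tot.ker := by
    intro i a ha
    obtain ⟨j, hj⟩ := exists_ne i
    simpa using hpair i j hj.symm a 1 (by simp [ha])
  have hzcomm : ∀ i, (⟨Pi.mulSingle i (z i), hsgl i _ (hzs i)⟩ : ↥tot.ker) ∈ commutator ↥tot.ker := by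
    intro i
    obtain ⟨j, hj⟩ := exists_ne i
    obtain ⟨b, hb⟩ : ∃ b, sg i (g i) * sg j b = 1 := by
      rcases Int.units_eq_one_or (sg i (g i)) with h | h
      · exact ⟨1, by simp [h]⟩
      · exact ⟨o j, by simp [h, ho j]⟩
    have hmem := Subgroup.commutator_mem_commutator (G := ↥tot.ker) (H₁ := ⊤) (H₂ := ⊤)
      (Subgroup.mem_top ⟨_, hpair i j hj.symm (g i) b hb⟩) (Subgroup.mem_top ⟨_, hsgl i _ (hk i)⟩)
    rw [commutator_def]
    refine cast (congrArg (fun v : ↥tot.ker => v ∈ ⁅(⊤ : Subgroup ↥tot.ker), (⊤ : Subgroup ↥tot.ker)⁆) ?_) hmem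
    refine Subtype.ext (funext fun l => ?_)
    simp only [commutatorElement_def, Subgroup.coe_mul, Subgroup.coe_inv, Pi.mul_apply, Pi.inv_apply]
    by_cases hl : l = i
    · subst hl
      rw [Pi.mulSingle_eq_same, Pi.mulSingle_eq_of_ne hj.symm, Pi.mulSingle_eq_same,
        Pi.mulSingle_eq_same, mul_one, ← commutatorElement_def, hgk]
    · rw [Pi.mulSingle_eq_of_ne hl, Pi.mulSingle_eq_of_ne hl, Pi.mulSingle_eq_of_ne hl]
      simp
  rintro ⟨A, B, hA, hB', hc, hi, hs⟩
  let pr : ∀ i, ↥tot.ker →* G i := fun i => (Pi.evalMonoidHom G i).comp tot.ker.subtype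
  have hsurj : ∀ i, Function.Surjective (pr i) := by
    intro i a
    obtain ⟨j, hj⟩ := exists_ne i
    obtain ⟨b, hb⟩ : ∃ b, sg i a * sg j b = 1 := by
      rcases Int.units_eq_one_or (sg i a) with h | h
      · exact ⟨1, by simp [h]⟩
      · exact ⟨o j, by simp [h, ho j]⟩
    exact ⟨⟨_, hpair i j hj.symm a b hb⟩, by simp [pr, hj.symm]⟩
  have hdich : ∀ i, A.map (pr i) ≤ Subgroup.center (G i) ∨ B.map (pr i) ≤ Subgroup.center (G i) :=
    fun i => (hB i).indec _ _
      (by rintro _ ⟨a, ha, rfl⟩ _ ⟨b, hb, rfl⟩; rw [← map_mul, ← map_mul, hc a ha b hb])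
      (by rw [← Subgroup.map_sup, hs, Subgroup.map_top_of_surjective _ (hsurj i)])
  have hsgc : ∀ i, ∀ x ∈ Subgroup.center (G i), sg i x = 1 := by
    intro i x hx
    rcases hzu i x hx with h | h <;> rw [h]
    · exact map_one _
    · exact hzs i
  have hcz : ∀ C : Subgroup ↥tot.ker, (∀ i, C.map (pr i) ≤ Subgroup.center (G i)) →
      C ≤ commutator ↥tot.ker ∧ C ≤ Subgroup.center ↥tot.ker := by
    intro C hC
    refine ⟨fun x hx => ?_, fun x hx => ?_⟩
    · have hx' : x.1 ∈ (commutator ↥tot.ker).map tot.ker.subtype := by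
        refine Subgroup.pi_mem_of_mulSingle_mem x.1 fun i => ?_
        rcases hzu i _ (hC i ⟨x, hx, rfl⟩) with h | h
        · rw [show x.1 i = 1 from h, Pi.mulSingle_one]; exact one_mem _
        · rw [show x.1 i = z i from h]; exact ⟨_, hzcomm i, rfl⟩
      obtain ⟨y, hy, hyx⟩ := hx'
      rwa [show y = x from Subtype.ext hyx] at hy
    · rw [Subgroup.mem_center_iff]
      intro y
      refine Subtype.ext (funext fun i => ?_)
      exact Subgroup.mem_center_iff.1 (hC i ⟨x, hx, rfl⟩) (y.1 i)
  by_cases hallA : ∀ i, A.map (pr i) ≤ Subgroup.center (G i)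
  · obtain ⟨h1, h2⟩ := hcz A hallA
    exact hA (eq_bot_iff.2 fun x hx => hi ▸ ⟨hx, commutator_le_of_sup hs h2 (h1 hx)⟩)
  by_cases hallB : ∀ i, B.map (pr i) ≤ Subgroup.center (G i)
  · obtain ⟨h1, h2⟩ := hcz B hallB
    exact hB' (eq_bot_iff.2 fun x hx =>
      hi ▸ ⟨commutator_le_of_sup (sup_comm A B ▸ hs) h2 (h1 hx), hx⟩)
  · push Not at hallA hallB
    obtain ⟨i1, hi1⟩ := hallA
    obtain ⟨j1, hj1⟩ := hallB
    have hi1' : B.map (pr i1) ≤ Subgroup.center (G i1) := (hdich i1).resolve_left hi1
    have hij : i1 ≠ j1 := fun e => hj1 (e ▸ hi1')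
    let I : Finset (Fin r) := Finset.univ.filter fun i => B.map (pr i) ≤ Subgroup.center (G i)
    have hAI : ∀ a ∈ A, ∏ i ∈ I, sg i (a.1 i) = 1 := by
      intro a ha
      have h := MonoidHom.mem_ker.1 a.2
      rw [htot, ← Finset.prod_mul_prod_compl I] at h
      rwa [Finset.prod_eq_one (s := Iᶜ) fun i hi => ?_, mul_one] at h
      simp [I] at hi
      exact hsgc i _ ((hdich i).resolve_right hi ⟨a, ha, rfl⟩)
    have hall : ∀ p : ↥tot.ker, ∏ i ∈ I, sg i (p.1 i) = 1 := by
      intro p
      have hp : p ∈ A ⊔ B := hs ▸ Subgroup.mem_top p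
      let θ : ↥tot.ker →* ℤˣ := MonoidHom.mk' (fun p => ∏ i ∈ I, sg i (p.1 i)) fun x y => by
        simp [Finset.prod_mul_distrib]
      have hle : A ⊔ B ≤ θ.ker := sup_le hAI fun b hb => MonoidHom.mem_ker.2
        (show ∏ i ∈ I, sg i (b.1 i) = 1 from Finset.prod_eq_one fun i hi => by
          simp [I] at hi
          exact hsgc i _ (hi ⟨b, hb, rfl⟩))
      exact hle hp
    have h := hall ⟨_, hpair i1 j1 hij (o i1) (o j1) (by simp [ho])⟩
    have hiI : i1 ∈ I := by simp [I, hi1']
    have hjI : j1 ∉ I := by simp [I, hj1]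
    rw [Finset.prod_eq_single i1] at h
    · simp [hij, ho] at h
    · intro l hl hli
      have hlj : l ≠ j1 := fun e => hjI (e ▸ hl)
      simp [hli, hlj]
    · exact fun h' => absurd hiI h'

/-- The parity-correcting map into an alternating group. -/
def correctHom {α β : Type} [Fintype α] [DecidableEq α] [Fintype β] [DecidableEq β] (τ : Perm β)
    (hτ : τ * τ = 1) (hs : Perm.sign τ = -1) {X : Type} [Group X] (h : X →* Perm α) :
    X →* alternatingGroup (α ⊕ β) :=
  MonoidHom.mk' (fun x => ⟨Equiv.sumCongr (h x) (if Perm.sign (h x) = 1 then 1 else τ), by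
      rw [Equiv.Perm.mem_alternatingGroup, Equiv.Perm.sign_sumCongr]
      split_ifs with hx
      · simp [hx]
      · rw [(Int.units_eq_one_or _).resolve_left hx, hs]; rfl⟩)
    fun x y => Subtype.ext (by
      show Equiv.sumCongr _ _ = Equiv.sumCongr _ _ * Equiv.sumCongr _ _
      rw [Equiv.Perm.sumCongr_mul]
      congr 1
      · exact map_mul h x y
      · rcases Int.units_eq_one_or (Perm.sign (h x)) with a | a <;>
          rcases Int.units_eq_one_or (Perm.sign (h y)) with b | b <;>
          simp [map_mul, a, b, hτ])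

theorem alt_decomp_iff (n : ℕ) (hn : 4 ≤ n) (P : Sylow 2 (alternatingGroup (Fin n))) :
    Decomp ↥(P : Subgroup (alternatingGroup (Fin n))) ↔
      (n = 4 ∨ n = 5 ∨ ((n % 4 = 2 ∨ n % 4 = 3) ∧ ∀ r : ℕ, 4 * (n / 4) ≠ 2 ^ r)) := by
  classical
  haveI : Fact (Nat.Prime 2) := ⟨Nat.prime_two⟩
  obtain ⟨r, a, ha2, hsum, hfac, hr0, hr1⟩ := exists_exponents (4 * (n / 4)) (dvd_mul_right 4 _)
  choose T hT hBlk hEven hOdd z hz1 hz2 hzc hze hzu using
    fun i => exists_block (a i) (le_trans (by norm_num) (ha2 i))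
  set j := n % 4 with hj
  let h := sigmaHom T
  have hr : 1 ≤ r := by
    rcases Nat.eq_zero_or_pos r with e | e
    · have := hr0.1 e; omega
    · exact e
  have hcard : Nat.card (∀ i, T i) = 2 ^ (4 * (n / 4)).factorial.factorization 2 := by
    rw [Nat.card_pi, hfac, ← Finset.prod_pow_eq_pow_sum]
    exact Finset.prod_congr rfl fun i _ => hT i
  have hPi : IsPGroup 2 (∀ i, T i) := IsPGroup.of_card hcard
  have hαc : Fintype.card (Σ i, Fin (2 ^ a i)) = 4 * (n / 4) := by simp [hsum]
  have hsign : ∀ x, Perm.sign (h x) = ∏ i, Perm.sign ((x i : T i) : Perm (Fin (2 ^ a i))) :=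
    fun x => sign_sigma_right fun i => ((x i : T i) : Perm (Fin (2 ^ a i)))
  have hj4 : j < 4 := Nat.mod_lt _ (by norm_num)
  have hfn : n.factorial.factorization 2 = (4 * (n / 4)).factorial.factorization 2 + j / 2 := by
    rw [← factorization_factorial_four (dvd_mul_right 4 _) hj4]
    congr 3
    omega
  let e : (Σ i, Fin (2 ^ a i)) ⊕ Fin j ≃ Fin n :=
    Fintype.equivFinOfCardEq (by rw [Fintype.card_sum, hαc, Fintype.card_fin]; omega)
  have hAn := card_alternating_factorization (n := n) (by omega)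
  by_cases hj2 : j < 2
  · -- no spare transposition
    let f : (∀ i, T i) →* Perm (Fin n) := e.permCongrHom.toMonoidHom.comp
      ((Equiv.Perm.sumCongrHom _ _).comp ((MonoidHom.inl _ (Perm (Fin j))).comp h))
    have hinl : Function.Injective
        (MonoidHom.inl (Perm (Σ i, Fin (2 ^ a i))) (Perm (Fin j))) :=
      fun x y hxy => congrArg Prod.fst hxy
    have hf : Function.Injective f := e.permCongrHom.injective.comp
      (Equiv.Perm.sumCongrHom_injective.comp (hinl.comp (sigmaHom_injective T)))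
    obtain ⟨ψ⟩ := nonempty_equiv_sylow_normal f hf (by
      rw [hcard, Nat.card_perm, Nat.card_eq_fintype_card, Fintype.card_fin, hfn]
      congr 1
      omega) (alternatingGroup (Fin n)) P
    set tot := Perm.sign.comp h
    have hcomap : (alternatingGroup (Fin n)).comap f = tot.ker := by
      refine Subgroup.ext fun x => ?_
      rw [Subgroup.mem_comap, Equiv.Perm.mem_alternatingGroup, MonoidHom.mem_ker]
      show Perm.sign (e.permCongrHom (Equiv.Perm.sumCongr (h x) 1)) = 1 ↔ _
      rw [Equiv.permCongrHom_coe, Equiv.Perm.sign_permCongr, Equiv.Perm.sign_sumCongr, map_one,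
        mul_one]
      rfl
    rw [hcomap] at ψ
    constructor
    · intro hd
      have hd' := decomp_congr ψ.symm hd
      by_contra hcon
      have h8 : 8 ≤ n := by omega
      rcases Nat.lt_or_ge r 2 with hlt | hge
      · obtain rfl : r = 1 := by omega
        let π : (∀ i, T i) →* T 0 := Pi.evalMonoidHom (fun i => ↥(T i)) 0
        let ι : T 0 →* (∀ i, T i) := MonoidHom.mulSingle (fun i => ↥(T i)) 0
        have hπι : ∀ x, ι (π x) = x := fun x => funext fun i => by
          obtain rfl : i = 0 := Subsingleton.elim i 0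
          simp [π, ι]
        let Φ : (∀ i, T i) ≃* T 0 :=
          { toFun := π, invFun := ι, left_inv := hπι, right_inv := fun x => by simp [π, ι]
            map_mul' := map_mul π }
        have hker : tot.ker.map Φ.toMonoidHom = (Perm.sign.comp (T 0).subtype).ker := by
          refine Subgroup.ext fun x => ⟨?_, fun hx => ⟨Φ.symm x, ?_, Φ.apply_symm_apply x⟩⟩
          · rintro ⟨y, hy, rfl⟩
            have hy' := MonoidHom.mem_ker.1 hy
            rw [show tot y = Perm.sign (h y) from rfl, hsign, Fin.prod_univ_one] at hy'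
            exact MonoidHom.mem_ker.2 hy'
          · show Perm.sign (h (Φ.symm x)) = 1
            rw [hsign, Fin.prod_univ_one]
            simpa [Φ, ι] using MonoidHom.mem_ker.1 hx
        have hd'' := decomp_congr ((Φ.subgroupMap tot.ker).trans (MulEquiv.subgroupCongr hker)) hd'
        have ha3 : 3 ≤ a 0 := by
          by_contra hlt
          have : a 0 = 2 := by have := ha2 0; omega
          simp [this] at hsum
          omega
        exact not_decomp_of_center (((IsPGroup.of_card (hT 0))).to_subgroup _) (hEven 0 ha3) hd''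
      · exact not_decomp_even hge (fun i => Perm.sign.comp (T i).subtype) (fun i => hBlk i (ha2 i))
          tot hsign hd'
    · intro hrhs
      have h45 : n = 4 ∨ n = 5 := by
        rcases hrhs with h' | h' | ⟨h', -⟩
        · exact Or.inl h'
        · exact Or.inr h'
        · omega
      -- an elementary abelian group of order four
      have hc4 : Nat.card ↥(P : Subgroup (alternatingGroup (Fin n))) = 4 := by
        rw [P.card_eq_multiplicity]
        have h2 : (4 : ℕ).factorial.factorization 2 = 3 := by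
          rw [show Nat.factorial 4 = 2 ^ 3 * 3 by rfl, Nat.factorization_mul (by norm_num) (by norm_num),
            Finsupp.add_apply, Nat.prime_two.factorization_pow, Finsupp.single_eq_same,
            Nat.factorization_eq_zero_of_not_dvd (by norm_num)]
        have h3 : n.factorial.factorization 2 = 3 := by
          rw [hfn, show 4 * (n / 4) = 4 by omega, h2]; omega
        rw [show (Nat.card (alternatingGroup (Fin n))).factorization 2 = 2 by omega]
        rfl
      have hexp : ∀ x : ↥(P : Subgroup (alternatingGroup (Fin n))), x ^ 2 = 1 := by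
        have hall : ∀ x : Perm (Fin n), Perm.sign x = 1 → x ^ 4 = 1 → x ^ 2 = 1 := by
          rcases h45 with rfl | rfl <;> decide +kernel
        intro x
        refine Subtype.ext (Subtype.ext ?_)
        refine hall _ (Equiv.Perm.mem_alternatingGroup.1 x.1.2) ?_
        have := congrArg (fun z : ↥(P : Subgroup (alternatingGroup (Fin n))) => (z.1 : Perm (Fin n)))
          (pow_card_eq_one' (x := x))
        rw [hc4] at this
        simpa using this
      set X := ↥(P : Subgroup (alternatingGroup (Fin n)))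
      obtain ⟨x, hx⟩ : ∃ x : X, x ≠ 1 := by
        by_contra hcon
        push Not at hcon
        have : Nat.card X ≤ 1 := Finite.card_le_one_iff_subsingleton.2 ⟨fun u v => by rw [hcon u, hcon v]⟩
        omega
      have hzx : ∀ (x : X), x ≠ 1 → Nat.card (Subgroup.zpowers x) = 2 := fun x hx => by
        rw [Nat.card_zpowers, orderOf_eq_prime (hexp x) hx]
      obtain ⟨y, hy⟩ : ∃ y : X, y ∉ Subgroup.zpowers x := by
        by_contra hcon
        push Not at hcon
        have := hzx x hx
        rw [show Subgroup.zpowers x = ⊤ from eq_top_iff.2 fun u _ => hcon u, Subgroup.card_top] at this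
        omega
      have hy1 : y ≠ 1 := fun e' => hy (e' ▸ one_mem _)
      have hinv : ∀ u : X, u⁻¹ = u := fun u => inv_eq_of_mul_eq_one_left (by rw [← pow_two]; exact hexp u)
      have hcomm : ∀ u v : X, u * v = v * u := fun u v => by
        calc u * v = (u * v)⁻¹ := (hinv _).symm
          _ = v * u := by rw [mul_inv_rev, hinv, hinv]
      have hinf : Subgroup.zpowers x ⊓ Subgroup.zpowers y = ⊥ := by
        refine eq_bot_iff.2 fun u hu => Subgroup.mem_bot.2 ?_
        by_contra hu1
        have : Subgroup.zpowers y ≤ Subgroup.zpowers x := by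
          have he : Subgroup.zpowers u = Subgroup.zpowers y :=
            Subgroup.eq_of_le_of_card_ge (Subgroup.zpowers_le.2 hu.2) (by rw [hzx u hu1, hzx y hy1])
          rw [← he]; exact Subgroup.zpowers_le.2 hu.1
        exact hy (this (Subgroup.mem_zpowers y))
      refine ⟨Subgroup.zpowers x, Subgroup.zpowers y, by simpa using hx, by simpa using hy1,
        fun u _ v _ => hcomm u v, hinf, ?_⟩
      refine Subgroup.eq_top_of_le_card _ ?_
      have hlt : Subgroup.zpowers x < Subgroup.zpowers x ⊔ Subgroup.zpowers y :=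
        lt_of_le_of_ne le_sup_left fun e' => hy (e'.symm ▸ (le_sup_right : Subgroup.zpowers y ≤ _)
          (Subgroup.mem_zpowers y))
      obtain ⟨d, hd⟩ := Subgroup.card_dvd_of_le hlt.le
      have hd1 : d ≠ 1 := fun e' => hlt.ne (Subgroup.eq_of_le_of_card_ge hlt.le (by rw [hd, e', mul_one]))
      have hd0 : d ≠ 0 := fun e' => Nat.card_pos.ne' (hd.trans (by rw [e', mul_zero]))
      rw [hd, hzx x hx]
      exact le_trans (le_of_eq hc4) (by omega)
  · -- a spare transposition absorbs the sign
    push Not at hj2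
    haveI : Nontrivial (Fin j) := Fin.nontrivial_iff_two_le.2 hj2
    obtain ⟨p, q, hpq⟩ := exists_pair_ne (Fin j)
    let τ : Perm (Fin j) := Equiv.swap p q
    let c := correctHom τ (Equiv.swap_mul_self p q) (Equiv.Perm.sign_swap hpq) h
    let emb : alternatingGroup ((Σ i, Fin (2 ^ a i)) ⊕ Fin j) →* alternatingGroup (Fin n) :=
      (e.permCongrHom.toMonoidHom.comp (alternatingGroup _).subtype).codRestrict _ fun x => by
        rw [Equiv.Perm.mem_alternatingGroup]
        show Perm.sign (e.permCongrHom x.1) = 1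
        rw [Equiv.permCongrHom_coe, Equiv.Perm.sign_permCongr]
        exact Equiv.Perm.mem_alternatingGroup.1 x.2
    have hf : Function.Injective (emb.comp c) := by
      intro x y hxy
      have h1 := e.permCongrHom.injective (congrArg Subtype.val hxy)
      exact sigmaHom_injective T (Equiv.ext fun u => Sum.inl_injective
        (Equiv.congr_fun h1 (Sum.inl u)))
    obtain ⟨ψ⟩ := nonempty_equiv_sylow (emb.comp c) hf (by
      rw [hcard]; congr 1; omega) P
    constructor
    · intro hd
      refine Or.inr (Or.inr ⟨by omega, fun s hs => ?_⟩)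
      obtain rfl : r = 1 := hr1.2 ⟨s, hs⟩
      refine not_decomp_of_center hPi (fun x y hx hy hx1 hy1 => ?_) (decomp_congr ψ.symm hd)
      have hc : ∀ w : (∀ i, T i), w ∈ Subgroup.center _ → w ≠ 1 → w 0 = z 0 := by
        intro w hw hw1
        refine (hzu 0 (w 0) (Subgroup.mem_center_iff.2 fun g => ?_)).resolve_left fun h0 => hw1 ?_
        · have := congrFun (Subgroup.mem_center_iff.1 hw (Pi.mulSingle 0 g)) 0
          simpa using this
        · funext i
          obtain rfl : i = 0 := Subsingleton.elim i 0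
          exact h0
      funext i
      obtain rfl : i = 0 := Subsingleton.elim i 0
      rw [hc x hx hx1, hc y hy hy1]
    · intro hrhs
      have hns : ∀ s, 4 * (n / 4) ≠ 2 ^ s := by
        rcases hrhs with h' | h' | ⟨-, h'⟩
        · omega
        · omega
        · exact h'
      have hr2 : 2 ≤ r := by
        by_contra hlt
        obtain ⟨s, hs⟩ := hr1.1 (by omega : r = 1)
        exact hns s hs
      let i0 : Fin r := ⟨0, by omega⟩
      let i1 : Fin r := ⟨1, by omega⟩
      have h10 : i1 ≠ i0 := by intro e'; have := congrArg Fin.val e'; simp [i0, i1] at this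
      refine decomp_congr ψ ⟨(MonoidHom.mulSingle (fun i => ↥(T i)) i0).range,
        (Pi.evalMonoidHom (fun i => ↥(T i)) i0).ker, ?_, ?_, ?_, ?_, ?_⟩
      · intro hb
        have hm : (Pi.mulSingle i0 (z i0) : ∀ i, T i) ∈ (MonoidHom.mulSingle (fun i => ↥(T i)) i0).range := ⟨_, rfl⟩
        rw [hb, Subgroup.mem_bot, Pi.mulSingle_eq_one_iff] at hm
        exact hz1 i0 hm
      · intro hb
        have hm : (Pi.mulSingle i1 (z i1) : ∀ i, T i) ∈ (Pi.evalMonoidHom (fun i => ↥(T i)) i0).ker := by
          simp [h10.symm]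
        rw [hb, Subgroup.mem_bot, Pi.mulSingle_eq_one_iff] at hm
        exact hz1 i1 hm
      · rintro _ ⟨u, rfl⟩ v hv
        funext l
        by_cases hl : l = i0
        · subst hl
          rw [Pi.mul_apply, Pi.mul_apply, show v i0 = 1 from hv]; simp
        · simp [hl]
      · refine eq_bot_iff.2 ?_
        rintro _ ⟨⟨u, rfl⟩, hv⟩
        rw [Subgroup.mem_bot]
        have : u = 1 := by simpa using hv
        simp [this]
      · refine eq_top_iff.2 fun x _ => ?_
        rw [show x = Pi.mulSingle i0 (x i0) * ((Pi.mulSingle i0 (x i0))⁻¹ * x) by group]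
        refine mul_mem (Subgroup.mem_sup_left ⟨_, rfl⟩) (Subgroup.mem_sup_right ?_)
        simp

end Cfsg.Agent.SylTwo
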