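import Mathlib

/-!
Groups in which all squares lie in the derived subgroup; recognition of Sylow subgroups through an
injective homomorphism; 2-parts of `q ^ i - 1`.
-/

set_option autoImplicit false

namespace Cfsg.Agent.SylTwo

open scoped commutatorElement

/-- All squares lie in the derived subgroup. -/
def SqComm (P : Type*) [Group P] : Prop := ∀ x : P, x ^ 2 ∈ commutator P

variable {P Q : Type*} [Group P] [Group Q]

theorem map_commutator_le (f : P →* Q) : (commutator P).map f ≤ commutator Q := by
  rw [commutator_def, commutator_def, Subgroup.map_commutator]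
  exact Subgroup.commutator_mono le_top le_top

theorem map_mem_commutator (f : P →* Q) {x : P} (h : x ∈ commutator P) : f x ∈ commutator Q :=
  map_commutator_le f ⟨x, h, rfl⟩

theorem sqComm_congr (e : P ≃* Q) (h : SqComm P) : SqComm Q := fun y => by
  have := map_mem_commutator e.toMonoidHom (h (e.symm y))
  simpa using this

theorem sq_map_mem (f : P →* Q) (h : SqComm P) (x : P) : f x ^ 2 ∈ commutator Q := by
  rw [← map_pow]; exact map_mem_commutator f (h x)

theorem sqComm_of_closure (S : Set P) (hS : Subgroup.closure S = ⊤)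
    (h : ∀ s ∈ S, s ^ 2 ∈ commutator P) : SqComm P := by
  intro x
  rw [← Abelianization.ker_of, MonoidHom.mem_ker, map_pow]
  have hx : x ∈ Subgroup.closure S := hS ▸ Subgroup.mem_top x
  induction hx using Subgroup.closure_induction with
  | mem s hs => rw [← map_pow, ← MonoidHom.mem_ker, Abelianization.ker_of]; exact h s hs
  | one => simp
  | mul a b _ _ ha hb => rw [map_mul, mul_pow, ha, hb, mul_one]
  | inv a _ ha => rw [map_inv, inv_pow, ha, inv_one]

/-- An element inverted by conjugation has its square in the derived subgroup. -/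
theorem sq_mem_of_conj_inv {r x : P} (h : r * x * r⁻¹ = x⁻¹) : x ^ 2 ∈ commutator P := by
  have hc : ⁅r, x⁆ ∈ commutator P := by
    rw [commutator_def]
    exact Subgroup.commutator_mem_commutator (Subgroup.mem_top _) (Subgroup.mem_top _)
  rw [commutatorElement_def, h, ← mul_inv_rev, ← pow_two] at hc
  simpa using inv_mem hc

/-- A `p`-group of the full `p`-part order, embedded in `G`, is isomorphic to every Sylow
subgroup. -/
theorem nonempty_equiv_sylow {p : ℕ} [hp : Fact p.Prime] {G : Type*} [Group G] [Finite G]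
    (f : P →* G) (hf : Function.Injective f)
    (hP : Nat.card P = p ^ (Nat.card G).factorization p) (S : Sylow p G) :
    Nonempty (P ≃* ↥(S : Subgroup G)) := by
  have hR : Nat.card f.range = p ^ (Nat.card G).factorization p := by
    rw [← hP]; exact (Nat.card_congr (MonoidHom.ofInjective hf).toEquiv).symm
  exact ⟨(MonoidHom.ofInjective hf).trans ((Sylow.ofCard f.range hR).equiv S)⟩

/-- The same for a normal subgroup, through the preimage. -/
theorem nonempty_equiv_sylow_normal {p : ℕ} [hp : Fact p.Prime] {G : Type*} [Group G] [Finite G]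
    (f : P →* G) (hf : Function.Injective f)
    (hP : Nat.card P = p ^ (Nat.card G).factorization p) (N : Subgroup G) [N.Normal]
    (S : Sylow p N) : Nonempty (↥(N.comap f) ≃* ↥(S : Subgroup N)) := by
  have hR : Nat.card f.range = p ^ (Nat.card G).factorization p := by
    rw [← hP]; exact (Nat.card_congr (MonoidHom.ofInjective hf).toEquiv).symm
  let R : Sylow p G := Sylow.ofCard f.range hR
  have hRc : (R : Subgroup G) = f.range := Sylow.coe_ofCard _ _
  -- the intersection, inside `N`
  let K : Subgroup N := (R : Subgroup G).subgroupOf N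
  have hKp : IsPGroup p K := R.2.comap_subtype
  have hmax : ∀ {L : Subgroup N}, IsPGroup p L → K ≤ L → L = K := by
    intro L hL hKL
    obtain ⟨T, hT⟩ := (hL.map N.subtype).exists_le_sylow
    obtain ⟨g, rfl⟩ := MulAction.exists_smul_eq G R T
    -- count
    refine (Subgroup.eq_of_le_of_card_ge hKL ?_).symm
    have hsub : L.map N.subtype ≤ ((R : Subgroup G) ⊓ N).map (MulAut.conj g).toMonoidHom := by
      intro x hx
      have hxT := hT hx
      rw [Sylow.coe_subgroup_smul] at hxT
      obtain ⟨y, hy, rfl⟩ := hxT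
      refine ⟨y, ⟨hy, ?_⟩, rfl⟩
      obtain ⟨z, -, hz⟩ := hx
      have hN : (MulAut.conj g) y ∈ N := by
        have : ((MulAut.conj g) y) = (z : G) := hz.symm
        rw [this]; exact z.2
      have := (inferInstance : N.Normal).conj_mem _ hN g⁻¹
      rw [MulAut.conj_apply, inv_inv] at this
      have e : g⁻¹ * (g * y * g⁻¹) * g = y := by group
      rwa [e] at this
    have h1 : Nat.card L = Nat.card (L.map N.subtype) :=
      (Subgroup.card_map_of_injective N.subtype_injective).symm
    have h2 : Nat.card K = Nat.card ((R : Subgroup G) ⊓ N : Subgroup G) := by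
      rw [← Subgroup.card_map_of_injective N.subtype_injective, Subgroup.subgroupOf_map_subtype]
    rw [h1, h2]
    refine (Subgroup.card_le_of_le hsub).trans (le_of_eq ?_)
    exact Subgroup.card_map_of_injective (MulAut.conj g).injective
  let KS : Sylow p N := ⟨K, hKp, hmax⟩
  let φ : ↥(N.comap f) →* ↥K :=
    { toFun := fun x => ⟨⟨f x.1, x.2⟩, by
        show f x.1 ∈ (R : Subgroup G)
        rw [hRc]; exact ⟨_, rfl⟩⟩
      map_one' := by ext; simp
      map_mul' := fun x y => by ext; simp }
  have hφ : Function.Bijective φ := by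
    constructor
    · intro x y h
      exact Subtype.ext (hf (congrArg (fun z : ↥K => (z.1 : G)) h))
    · rintro ⟨⟨y, hyN⟩, hy⟩
      have hy' : y ∈ f.range := hRc ▸ hy
      obtain ⟨x, rfl⟩ := hy'
      exact ⟨⟨x, hyN⟩, rfl⟩
  exact ⟨(MulEquiv.ofBijective φ hφ).trans (KS.equiv S)⟩

/-! ### 2-parts -/

theorem factorization_two_pow_two_mul_sub_one {q : ℕ} (hq : Odd q) (hq1 : 2 ≤ q) {i : ℕ}
    (hi : 1 ≤ i) : (q ^ (2 * i) - 1).factorization 2 =
      (q ^ 2 - 1).factorization 2 + i.factorization 2 := by
  have h2 : ¬ 2 ∣ q := by rw [Nat.odd_iff] at hq; omega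
  have hd : 2 ∣ q - 1 := by rw [Nat.odd_iff] at hq; omega
  have key : ∀ j, 1 ≤ j → padicValNat 2 (q ^ (2 * j) - 1) + 1 =
      padicValNat 2 (q + 1) + padicValNat 2 (q - 1) + (1 + padicValNat 2 j) := by
    intro j hj
    have h := padicValNat.pow_two_sub_pow (x := q) (y := 1) (by omega) hd h2 (n := 2 * j)
      (by omega) (by exact even_two_mul j)
    rw [one_pow, padicValNat.mul (by norm_num) (by omega), padicValNat_self] at h
    exact h
  have h1 := key 1 le_rfl
  have h3 := key i hi
  rw [mul_one, padicValNat_one_right] at h1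
  rw [Nat.factorization_def _ Nat.prime_two, Nat.factorization_def _ Nat.prime_two,
    Nat.factorization_def _ Nat.prime_two]
  omega

theorem factorization_two_prod_even (q : ℕ) (hq : Odd q) (hq1 : 2 ≤ q) (n : ℕ) :
    (∏ i ∈ Finset.range n, (q ^ (2 * (i + 1)) - 1)).factorization 2 =
      n * (q ^ 2 - 1).factorization 2 + n.factorial.factorization 2 := by
  have hne : ∀ i, q ^ (2 * (i + 1)) - 1 ≠ 0 := fun i => by
    have : 1 < q ^ (2 * (i + 1)) := one_lt_pow₀ (by omega) (by omega)
    omega
  induction n with
  | zero => simp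
  | succ n ih =>
    rw [Finset.prod_range_succ, Nat.factorization_mul (Finset.prod_ne_zero_iff.2 fun i _ => hne i)
      (hne n), Finsupp.add_apply, ih, factorization_two_pow_two_mul_sub_one hq hq1 (by omega),
      Nat.factorial_succ, Nat.factorization_mul (by omega) (Nat.factorial_ne_zero n),
      Finsupp.add_apply]
    ring

theorem factorization_two_odd_pow (q : ℕ) (hq : Odd q) (k : ℕ) : (q ^ k).factorization 2 = 0 :=
  Nat.factorization_eq_zero_of_not_dvd (Odd.not_two_dvd_nat hq.pow)

theorem factorization_two_odd_pow_mul {q : ℕ} (hq : Odd q) (k m : ℕ) (hm : m ≠ 0) :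
    (q ^ k * m).factorization 2 = m.factorization 2 := by
  rw [Nat.factorization_mul (pow_ne_zero _ hq.pos.ne') hm, Finsupp.add_apply,
    factorization_two_odd_pow q hq k, zero_add]

theorem three_le_factorization {q : ℕ} (hq : Odd q) (hq1 : 2 ≤ q) :
    3 ≤ (q ^ 2 - 1).factorization 2 := by
  obtain ⟨r, rfl⟩ := hq
  have hd : 2 ^ 3 ∣ (2 * r + 1) ^ 2 - 1 := by
    obtain ⟨k, hk⟩ := Nat.even_mul_succ_self r
    refine ⟨k, Nat.sub_eq_of_eq_add ?_⟩
    nlinarith [hk]
  have hne : (2 * r + 1) ^ 2 - 1 ≠ 0 := by
    have : 1 < (2 * r + 1) ^ 2 := one_lt_pow₀ (by omega) two_ne_zero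
    omega
  exact (Nat.prime_two.pow_dvd_iff_le_factorization hne).1 hd

end Cfsg.Agent.SylTwo
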