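import Cfsg.Agent.Lib.SylTwo.Wreath
import Cfsg.Agent.Lib.SylTwo.GLTwo
import Cfsg.Agent.TwoRank.Diag
import Cfsg.Prelude.Def_Transfer

/-!
The Sylow 2-subgroups of `GL_n(q)` and `SL_n(q)`, `q` odd: derived subgroup and normal 2-rank.
-/

set_option autoImplicit false

namespace Cfsg.Agent.SylTwo

open Equiv
open scoped Matrix

noncomputable section

/-! ### 2-parts of `|GL_n|` -/

theorem factorization_odd_exp {q : ℕ} (hq : Odd q) (hq1 : 2 ≤ q) {i : ℕ} (hi : Odd i) :
    (q ^ i - 1).factorization 2 = (q - 1).factorization 2 := by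
  obtain ⟨r, rfl⟩ := hi
  have hg : (∑ k ∈ Finset.range (2 * r + 1), q ^ k) * (q - 1) = q ^ (2 * r + 1) - 1 :=
    geom_sum_mul_of_one_le (by omega) _
  have hodd : ¬ 2 ∣ ∑ k ∈ Finset.range (2 * r + 1), q ^ k := by
    rw [Nat.dvd_iff_mod_eq_zero, Finset.sum_nat_mod]
    have : ∀ k, q ^ k % 2 = 1 := fun k => Nat.odd_iff.1 hq.pow
    simp [this]
  have hne : (∑ k ∈ Finset.range (2 * r + 1), q ^ k) ≠ 0 := fun h => hodd (h ▸ dvd_zero 2)
  rw [← hg, Nat.factorization_mul hne (by omega), Finsupp.add_apply,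
    Nat.factorization_eq_zero_of_not_dvd hodd, zero_add]

theorem factorization_prod_pairs {q : ℕ} (hq : Odd q) (hq1 : 2 ≤ q) : ∀ m : ℕ,
    (∏ i ∈ Finset.range (2 * m), (q ^ (i + 1) - 1)).factorization 2 =
      m * ((q - 1).factorization 2 + (q ^ 2 - 1).factorization 2) + m.factorial.factorization 2
  | 0 => by simp
  | m + 1 => by
    have hne : ∀ i, q ^ (i + 1) - 1 ≠ 0 := fun i => by
      have : 1 < q ^ (i + 1) := one_lt_pow₀ (by omega) (by omega)
      omega
    rw [show 2 * (m + 1) = 2 * m + 1 + 1 by ring, Finset.prod_range_succ, Finset.prod_range_succ,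
      Nat.factorization_mul (mul_ne_zero (Finset.prod_ne_zero_iff.2 fun i _ => hne i) (hne _)) (hne _),
      Finsupp.add_apply,
      Nat.factorization_mul (Finset.prod_ne_zero_iff.2 fun i _ => hne i) (hne _), Finsupp.add_apply,
      factorization_prod_pairs hq hq1 m, factorization_odd_exp hq hq1 ⟨m, rfl⟩,
      show 2 * m + 1 + 1 = 2 * (m + 1) by ring, factorization_two_pow_two_mul_sub_one hq hq1 (by omega),
      Nat.factorial_succ, Nat.factorization_mul (by omega) (Nat.factorial_ne_zero m), Finsupp.add_apply]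
    ring

theorem factorization_prod_one_mod_four {q : ℕ} (hq : q % 4 = 1) (hq1 : 2 ≤ q) : ∀ n : ℕ,
    (∏ i ∈ Finset.range n, (q ^ (i + 1) - 1)).factorization 2 =
      n * (q - 1).factorization 2 + n.factorial.factorization 2
  | 0 => by simp
  | n + 1 => by
    have hodd : Odd q := Nat.odd_iff.2 (by omega)
    have hne : ∀ i, q ^ (i + 1) - 1 ≠ 0 := fun i => by
      have : 1 < q ^ (i + 1) := one_lt_pow₀ (by omega) (by omega)
      omega
    have hv : (q ^ (n + 1) - 1).factorization 2 =
        (q - 1).factorization 2 + (n + 1).factorization 2 := by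
      rcases Nat.even_or_odd (n + 1) with ⟨r, hr⟩ | h
      · have hsq : (q ^ 2 - 1).factorization 2 = (q - 1).factorization 2 + 1 := by
          have hp : q ^ 2 - 1 = (q + 1) * (q - 1) := by
            rw [show q ^ 2 - 1 = q ^ 2 - 1 ^ 2 by rw [one_pow], Nat.sq_sub_sq]
          obtain ⟨w, hw⟩ : ∃ w, q + 1 = 2 * (2 * w + 1) := ⟨(q + 1) / 4, by omega⟩
          rw [hp, Nat.factorization_mul (by omega) (by omega), Finsupp.add_apply, hw,
            Nat.factorization_mul (by omega) (by omega), Finsupp.add_apply,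
            Nat.prime_two.factorization_self, Nat.factorization_eq_zero_of_not_dvd (by omega)]
          ring
        rw [hr, ← two_mul, factorization_two_pow_two_mul_sub_one hodd hq1 (by omega), hsq,
          Nat.factorization_mul two_ne_zero (by omega), Finsupp.add_apply,
          Nat.prime_two.factorization_self]
        ring
      · rw [factorization_odd_exp hodd hq1 h, Nat.factorization_eq_zero_of_not_dvd
          (Odd.not_two_dvd_nat h), add_zero]
    rw [Finset.prod_range_succ, Nat.factorization_mul (Finset.prod_ne_zero_iff.2 fun i _ => hne i)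
      (hne _), Finsupp.add_apply, factorization_prod_one_mod_four hq hq1 n, hv, Nat.factorial_succ,
      Nat.factorization_mul (by omega) (Nat.factorial_ne_zero n), Finsupp.add_apply]
    ring

variable {F : Type*} [Field F]

theorem factorization_card_GL [Fintype F] (hF : Odd (Fintype.card F)) (n : ℕ) :
    (Nat.card (GL (Fin n) F)).factorization 2 =
      (∏ i ∈ Finset.range n, (Fintype.card F ^ (i + 1) - 1)).factorization 2 := by
  rw [LinearGroup.card_GL_eq_pow_mul_prod, Nat.card_eq_fintype_card, factorization_two_odd_pow_mul hF]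
  refine Finset.prod_ne_zero_iff.2 fun i _ => ?_
  have : 1 < Fintype.card F ^ (i + 1) := one_lt_pow₀ Fintype.one_lt_card (by omega)
  omega

theorem factorization_card_SL [Fintype F] (n : ℕ) (hn : 1 ≤ n) :
    (Nat.card (GL (Fin n) F)).factorization 2 = (Fintype.card F - 1).factorization 2 +
      (Nat.card (Matrix.SpecialLinearGroup (Fin n) F)).factorization 2 := by
  haveI : Nonempty (Fin n) := ⟨⟨0, hn⟩⟩
  rw [LinearGroup.card_GL_eq_units_mul_SL, Nat.factorization_mul Nat.card_pos.ne' Nat.card_pos.ne',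
    Finsupp.add_apply, LinearGroup.natCard_units_field, Nat.card_eq_fintype_card]

/-- Renaming coordinates. -/
def glReindex {ι ι' : Type*} [Fintype ι] [DecidableEq ι] [Fintype ι'] [DecidableEq ι'] (e : ι ≃ ι') :
    GL ι F ≃* GL ι' F :=
  Units.mapEquiv (Matrix.reindexAlgEquiv F F e).toMulEquiv

theorem det_glReindex {ι ι' : Type*} [Fintype ι] [DecidableEq ι] [Fintype ι'] [DecidableEq ι']
    (e : ι ≃ ι') (g : GL ι F) :
    Matrix.GeneralLinearGroup.det (glReindex e g) = Matrix.GeneralLinearGroup.det g :=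
  Units.ext (Matrix.det_reindex_self e (g : Matrix ι ι F))

/-- A representation of a wreath product together with extra diagonal signs. -/
def glWr {W : Type*} [Group W] {ι : Type*} [Fintype ι] [DecidableEq ι] {κ : Type*} [Fintype κ]
    [DecidableEq κ] {lam : Type*} [Fintype lam] [DecidableEq lam] {T : Subgroup (Perm ι)}
    (ρ : W →* GL κ F) : Wr W T × (lam → ℤˣ) →* GL ((ι × κ) ⊕ lam) F :=
  MonoidHom.toHomUnits
    { toFun := fun p => Matrix.fromBlocks (wrMatrix ρ p.1) 0 0
        (Matrix.diagonal fun k => ((p.2 k : ℤ) : F))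
      map_one' := by simp [wrMatrix_one, Matrix.fromBlocks_one]
      map_mul' := fun p r => by
        simp [wrMatrix_mul, Matrix.fromBlocks_multiply, Matrix.diagonal_mul_diagonal] }

theorem glWr_injective {W : Type*} [Group W] {ι : Type*} [Fintype ι] [DecidableEq ι] {κ : Type*}
    [Fintype κ] [DecidableEq κ] [Nonempty κ] {lam : Type*} [Fintype lam] [DecidableEq lam]
    {T : Subgroup (Perm ι)} (h2 : (2 : F) ≠ 0) (ρ : W →* GL κ F) (hρ : Function.Injective ρ) :
    Function.Injective (glWr (lam := lam) (T := T) ρ) := by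
  intro p r h
  have h' : Matrix.fromBlocks (wrMatrix ρ p.1) 0 0 (Matrix.diagonal fun k => ((p.2 k : ℤ) : F)) =
      Matrix.fromBlocks (wrMatrix ρ r.1) 0 0 (Matrix.diagonal fun k => ((r.2 k : ℤ) : F)) :=
    congrArg Units.val h
  rw [Matrix.fromBlocks_inj] at h'
  refine Prod.ext (wrGL_injective ρ hρ (Units.ext (by rw [coe_wrGL, coe_wrGL]; exact h'.1)))
    (funext fun k => ?_)
  have hk := congrFun (congrFun h'.2.2.2 k) k
  simp only [Matrix.diagonal_apply_eq] at hk
  rcases Int.units_eq_one_or (p.2 k) with hp | hp <;> rcases Int.units_eq_one_or (r.2 k) with hr | hr <;>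
    rw [hp, hr] at hk ⊢ <;> simp at hk ⊢
  · exact h2 (by linear_combination hk)
  · exact h2 (by linear_combination (-1 : F) * hk)

/-- Sylow subgroups of `SL` through a homomorphism onto a Sylow subgroup of `GL`. -/
theorem nonempty_equiv_sylow_SL [Fintype F] {P : Type*} [Group P] {ι : Type*} [Fintype ι]
    [DecidableEq ι] (f : P →* GL ι F) (hf : Function.Injective f)
    (hP : Nat.card P = 2 ^ (Nat.card (GL ι F)).factorization 2)
    (S : Sylow 2 (Matrix.SpecialLinearGroup ι F)) :
    Nonempty (↥((Matrix.GeneralLinearGroup.det.comp f).ker) ≃*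
      ↥(S : Subgroup (Matrix.SpecialLinearGroup ι F))) := by
  haveI : Fact (Nat.Prime 2) := ⟨Nat.prime_two⟩
  set N := (Matrix.GeneralLinearGroup.det : GL ι F →* Fˣ).ker
  let j : N ≃* Matrix.SpecialLinearGroup ι F := LinearGroup.slEquivKerDet.symm
  obtain ⟨R⟩ : Nonempty (Sylow 2 N) := inferInstance
  obtain ⟨e⟩ := nonempty_equiv_sylow_normal f hf hP N R
  have hc : N.comap f = (Matrix.GeneralLinearGroup.det.comp f).ker := MonoidHom.comap_ker _ _
  have hcard : Nat.card R =
      2 ^ (Nat.card (Matrix.SpecialLinearGroup ι F)).factorization 2 := by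
    rw [R.card_eq_multiplicity, Nat.card_congr j.toEquiv]
  obtain ⟨e'⟩ := nonempty_equiv_sylow (j.toMonoidHom.comp (R : Subgroup N).subtype)
    (j.injective.comp Subtype.coe_injective) hcard S
  exact ⟨(MulEquiv.subgroupCongr hc.symm).trans (e.trans e')⟩

theorem det_sgl {W : Type*} [Group W] {ι : Type*} [Fintype ι] [DecidableEq ι] {κ : Type*}
    [Fintype κ] [DecidableEq κ] {T : Subgroup (Perm ι)} (ρ : W →* GL κ F) (i : ι) (w : W) :
    Matrix.GeneralLinearGroup.det (wrGL (T := T) ρ (sgl i w)) =
      Matrix.GeneralLinearGroup.det (ρ w) := by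
  refine Units.ext ?_
  rw [Matrix.GeneralLinearGroup.val_det_apply, Matrix.GeneralLinearGroup.val_det_apply, coe_wrGL,
    sgl_apply, det_wrMatrix_inl, Finset.prod_eq_single i]
  · simp
  · intro j _ hj; simp [hj]
  · simp

theorem det_inr {W : Type*} [Group W] {ι : Type*} [Fintype ι] [DecidableEq ι] {κ : Type*}
    [Fintype κ] [DecidableEq κ] {T : Subgroup (Perm ι)} (ρ : W →* GL κ F) (σ : T) :
    ((Matrix.GeneralLinearGroup.det (wrGL ρ (SemidirectProduct.inr σ : Wr W T)) : Fˣ) : F) =
      ((Perm.sign (σ : Perm ι) : ℤ) : F) ^ Fintype.card κ := by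
  rw [Matrix.GeneralLinearGroup.val_det_apply, coe_wrGL, det_wrMatrix_inr]

variable [Fintype F]

theorem four_dvd_succ_iff : 4 ∣ Fintype.card F + 1 ↔ Fintype.card F % 4 = 3 := by omega

theorem factorization_sub_one_of_three {q : ℕ} (hq : q % 4 = 3) : (q - 1).factorization 2 = 1 := by
  obtain ⟨r, hr⟩ : ∃ r, q - 1 = 2 * (2 * r + 1) := ⟨(q - 1) / 4, by omega⟩
  rw [hr, Nat.factorization_mul (by omega) (by omega), Finsupp.add_apply,
    Nat.prime_two.factorization_self, Nat.factorization_eq_zero_of_not_dvd (by omega)]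

/-- `SL_{2m}`, `q ≡ 3 mod 4`. -/
theorem sl_even_sqComm_three (hq : Fintype.card F % 4 = 3) (m : ℕ) (hm : 1 ≤ m)
    (S : Sylow 2 (Matrix.SpecialLinearGroup (Fin (2 * m)) F)) :
    SqComm ↥(S : Subgroup (Matrix.SpecialLinearGroup (Fin (2 * m)) F)) := by
  classical
  haveI : Fact (Nat.Prime 2) := ⟨Nat.prime_two⟩
  have hF : Odd (Fintype.card F) := Nat.odd_iff.2 (by omega)
  obtain ⟨W, y, hWc, -, hQs, -, hy2, hyd, hdet⟩ := exists_gl_two hq
  obtain ⟨T, ST, hST, hST2, hT⟩ := exists_sylow_perm (Fin m)
  let r : Fin m × Fin 2 ≃ Fin (2 * m) := finProdFinEquiv.trans (finCongr (by ring))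
  let f : Wr ↥W T × Unit →* GL (Fin (2 * m)) F :=
    ((glReindex r).toMonoidHom.comp (wrGL W.subtype)).comp (MonoidHom.fst _ _)
  have hf : Function.Injective f := fun a b h => by
    have h1 := wrGL_injective W.subtype Subtype.coe_injective ((glReindex r).injective h)
    exact Prod.ext h1 (Subsingleton.elim _ _)
  have hP : Nat.card (Wr ↥W T × Unit) = 2 ^ (Nat.card (GL (Fin (2 * m)) F)).factorization 2 := by
    rw [Nat.card_prod, Nat.card_eq_fintype_card (α := Unit), Fintype.card_unit, mul_one, card_wr,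
      hWc, hT, Fintype.card_fin, ← pow_mul, ← pow_add, factorization_card_GL hF,
      factorization_prod_pairs hF (two_le_card), factorization_sub_one_of_three hq]
    congr 1
    ring
  obtain ⟨e⟩ := nonempty_equiv_sylow_SL f hf hP S
  refine sqComm_congr e ?_
  have i0 : Fin m := ⟨0, hm⟩
  have hχs : ∀ i (w : W), (Matrix.GeneralLinearGroup.det.comp f) (sgl i w, ()) =
      Matrix.GeneralLinearGroup.det (w : GL (Fin 2) F) := fun i w => by
    show Matrix.GeneralLinearGroup.det (glReindex r (wrGL W.subtype (sgl i w))) = _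
    rw [det_glReindex, det_sgl]
    rfl
  refine sqComm_ker (Matrix.GeneralLinearGroup.det.comp f) i0 {y} (by simp [hy2]) ∅
    (Subsingleton.elim _ _) (by simp) hST hST2 ?_ (fun i w => by
      show (Matrix.GeneralLinearGroup.det.comp f) (sgl i w, ()) =
        (Matrix.GeneralLinearGroup.det.comp f) (sgl i0 w, ())
      rw [hχs, hχs]) ?_ ?_
  · intro σ
    refine Units.ext ?_
    show ((Matrix.GeneralLinearGroup.det
      (glReindex r (wrGL W.subtype (SemidirectProduct.inr σ))) : Fˣ) : F) = 1
    rw [det_glReindex, det_inr, Fintype.card_fin, pow_two, ← Int.cast_mul, ← Units.val_mul,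
      Int.units_mul_self]
    simp
  · intro w
    rcases hdet w with h | h
    · refine ⟨1, one_mem _, ?_⟩
      show (Matrix.GeneralLinearGroup.det.comp f) (sgl i0 (1⁻¹ * w), ()) = 1
      rw [inv_one, one_mul, hχs, h]
    · refine ⟨y, Subgroup.subset_closure rfl, ?_⟩
      show (Matrix.GeneralLinearGroup.det.comp f) (sgl i0 (y⁻¹ * w), ()) = 1
      rw [hχs, Subgroup.coe_mul, Subgroup.coe_inv, map_mul, map_inv, h, hyd, inv_mul_cancel]
  · intro i x hx
    have hxN : x ∈ Matrix.GeneralLinearGroup.det.ker.subgroupOf W := by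
      show Matrix.GeneralLinearGroup.det (x : GL (Fin 2) F) = 1
      rw [← hχs i x]
      exact hx
    let φ : ↥(Matrix.GeneralLinearGroup.det.ker.subgroupOf W) →*
        ↥((Matrix.GeneralLinearGroup.det.comp f).ker) :=
      (((MonoidHom.inl _ Unit).comp ((sgl (T := T) i).comp
        (Matrix.GeneralLinearGroup.det.ker.subgroupOf W).subtype))).codRestrict _ fun z => by
        show (Matrix.GeneralLinearGroup.det.comp f) (sgl i z.1, ()) = 1
        rw [hχs]
        exact z.2
    exact sq_map_mem φ hQs ⟨x, hxN⟩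

/-- `SL_{2m+1}`, `q ≡ 3 mod 4`. -/
theorem sl_odd_sqComm (hq : Fintype.card F % 4 = 3) (m : ℕ)
    (S : Sylow 2 (Matrix.SpecialLinearGroup (Fin (2 * m + 1)) F)) :
    SqComm ↥(S : Subgroup (Matrix.SpecialLinearGroup (Fin (2 * m + 1)) F)) := by
  classical
  haveI : Fact (Nat.Prime 2) := ⟨Nat.prime_two⟩
  have hF : Odd (Fintype.card F) := Nat.odd_iff.2 (by omega)
  obtain ⟨W, y, hWc, hWs, -, -, -, -, -⟩ := exists_gl_two hq
  obtain ⟨T, ST, hST, hST2, hT⟩ := exists_sylow_perm (Fin m)
  let r : (Fin m × Fin 2) ⊕ Unit ≃ Fin (2 * m + 1) :=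
    ((Equiv.sumCongr finProdFinEquiv finOneEquiv.symm).trans finSumFinEquiv).trans
      (finCongr (by ring))
  let A : Wr ↥W T →* Matrix ((Fin m × Fin 2) ⊕ Unit) ((Fin m × Fin 2) ⊕ Unit) F :=
    { toFun := fun p => Matrix.fromBlocks (wrMatrix W.subtype p) 0 0
        (Matrix.diagonal fun _ => (((Matrix.GeneralLinearGroup.det (wrGL W.subtype p))⁻¹ : Fˣ) : F))
      map_one' := by simp [wrMatrix_one, Matrix.fromBlocks_one]
      map_mul' := fun p s => by
        simp [wrMatrix_mul, Matrix.fromBlocks_multiply, Matrix.diagonal_mul_diagonal, mul_inv]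
        exact mul_comm _ _ }
  have hA : ∀ p, (Matrix.reindexAlgEquiv F F r (A p)).det = 1 := fun p => by
    rw [Matrix.coe_reindexAlgEquiv, Matrix.det_reindex_self]
    show (Matrix.fromBlocks _ _ _ _).det = 1
    rw [Matrix.det_fromBlocks_zero₂₁, Matrix.det_diagonal, Fintype.prod_unique]
    rw [show (wrMatrix W.subtype p).det =
      ((Matrix.GeneralLinearGroup.det (wrGL W.subtype p) : Fˣ) : F) by
        rw [Matrix.GeneralLinearGroup.val_det_apply, coe_wrGL]]
    exact Units.mul_inv _
  let f : Wr ↥W T →* Matrix.SpecialLinearGroup (Fin (2 * m + 1)) F :=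
    MonoidHom.mk' (fun p => ⟨Matrix.reindexAlgEquiv F F r (A p), hA p⟩) fun p s =>
      Subtype.ext (by
        show Matrix.reindexAlgEquiv F F r (A (p * s)) = _ * _
        rw [map_mul, map_mul])
  have hf : Function.Injective f := fun a b h => by
    have h1 := (Matrix.reindexAlgEquiv F F r).injective (congrArg Subtype.val h)
    have h2 : Matrix.fromBlocks (wrMatrix W.subtype a) 0 0 _ =
        Matrix.fromBlocks (wrMatrix W.subtype b) 0 0 _ := h1
    rw [Matrix.fromBlocks_inj] at h2
    exact wrGL_injective W.subtype Subtype.coe_injective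
      (Units.ext (by rw [coe_wrGL, coe_wrGL]; exact h2.1))
  have hne : ∀ i, Fintype.card F ^ (i + 1) - 1 ≠ 0 := fun i => by
    have : 1 < Fintype.card F ^ (i + 1) := one_lt_pow₀ Fintype.one_lt_card (by omega)
    omega
  have hP : Nat.card (Wr ↥W T) =
      2 ^ (Nat.card (Matrix.SpecialLinearGroup (Fin (2 * m + 1)) F)).factorization 2 := by
    have h1 := factorization_card_SL (F := F) (2 * m + 1) (by omega)
    rw [factorization_card_GL hF, Finset.prod_range_succ,
      Nat.factorization_mul (Finset.prod_ne_zero_iff.2 fun i _ => hne i) (hne _),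
      Finsupp.add_apply, factorization_prod_pairs hF two_le_card,
      factorization_odd_exp hF two_le_card ⟨m, rfl⟩] at h1
    rw [card_wr, hWc, hT, Fintype.card_fin, ← pow_mul, ← pow_add]
    congr 1
    rw [factorization_sub_one_of_three hq] at h1
    rw [Nat.add_mul, Nat.one_mul, Nat.mul_comm _ m]
    rw [Nat.mul_add, Nat.mul_one] at h1
    omega
  obtain ⟨e⟩ := nonempty_equiv_sylow f hf hP S
  exact sqComm_congr e (sqComm_wr hWs hST hST2)

/-- A transitive Sylow 2-subgroup of a symmetric group of 2-power degree. -/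
theorem sylow_perm_transitive {n k : ℕ} (hn : n = 2 ^ k) (T : Subgroup (Perm (Fin n)))
    (hT : Nat.card T = 2 ^ n.factorial.factorization 2) (a b : Fin n) : ∃ σ : T, (σ : Perm _) a = b := by
  classical
  haveI : Fact (Nat.Prime 2) := ⟨Nat.prime_two⟩
  suffices h : n ≤ Nat.card (MulAction.orbit T a) by
    have huniv : MulAction.orbit T a = Set.univ := by
      refine Set.eq_univ_of_forall fun c => ?_
      by_contra hc
      have h' : Nat.card (MulAction.orbit T a) < n := by
        rw [Nat.card_coe_set_eq]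
        calc _ < (Set.univ : Set (Fin n)).ncard :=
              Set.ncard_lt_ncard ((Set.ssubset_univ_iff).2 fun e => hc (by rw [e]; exact Set.mem_univ c))
          _ = n := by simp
      omega
    obtain ⟨σ, hσ⟩ : b ∈ MulAction.orbit T a := huniv ▸ Set.mem_univ b
    exact ⟨σ, hσ⟩
  have horb := MulAction.card_orbit_mul_card_stabilizer_eq_card_group T a
  simp only [← Nat.card_eq_fintype_card] at horb
  let φ : MulAction.stabilizer T a →* Perm {x : Fin n // x ≠ a} :=
    { toFun := fun g => Equiv.Perm.subtypePerm ((g : T) : Perm (Fin n)) fun x => by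
        have hfix : ((g : T) : Perm (Fin n)) a = a := g.2
        exact not_congr ⟨fun h => ((g : T) : Perm (Fin n)).injective (h.trans hfix.symm),
          fun h => h ▸ hfix⟩
      map_one' := by ext; simp
      map_mul' := fun g h => Equiv.ext fun x => Subtype.ext rfl }
  have hφ : Function.Injective φ := by
    intro g h e
    refine Subtype.ext (Subtype.ext (Equiv.ext fun x => ?_))
    by_cases hx : x = a
    · subst hx
      exact (g.2 : ((g : T) : Perm (Fin n)) x = x).trans (h.2 : ((h : T) : Perm (Fin n)) x = x).symm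
    · exact congrArg (fun z => ((z ⟨x, hx⟩ : {x : Fin n // x ≠ a}) : Fin n)) e
  have hdvd : Nat.card (MulAction.stabilizer T a) ∣ (n - 1).factorial := by
    have h1 := Subgroup.card_subgroup_dvd_card φ.range
    rw [← Nat.card_congr (MonoidHom.ofInjective hφ).toEquiv, Nat.card_perm,
      Nat.card_eq_fintype_card (α := {x : Fin n // x ≠ a})] at h1
    simpa [Fintype.card_subtype_compl] using h1
  obtain ⟨s, hs⟩ := ((IsPGroup.of_card hT).to_subgroup (MulAction.stabilizer T a)).exists_card_eq
  rw [hs, Nat.prime_two.pow_dvd_iff_le_factorization (Nat.factorial_ne_zero _)] at hdvd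
  have hn0 : 1 ≤ n := hn ▸ Nat.one_le_two_pow
  have hfac : n.factorial.factorization 2 = k + (n - 1).factorial.factorization 2 := by
    rw [show n.factorial = n * (n - 1).factorial from (Nat.mul_factorial_pred (by omega)).symm,
      Nat.factorization_mul (by omega) (Nat.factorial_ne_zero _), Finsupp.add_apply, hn,
      Nat.prime_two.factorization_pow, Finsupp.single_eq_same]
  rw [hT, hs, hfac, pow_add] at horb
  have hle : 2 ^ s ≤ 2 ^ (n - 1).factorial.factorization 2 := Nat.pow_le_pow_right two_pos hdvd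
  rw [← hn] at horb
  by_contra hlt
  push Not at hlt
  have : Nat.card (MulAction.orbit T a) * 2 ^ s < n * 2 ^ (n - 1).factorial.factorization 2 :=
    Nat.mul_lt_mul_of_lt_of_le hlt hle (by positivity)
  omega

/-- Scalars as `1 × 1` matrices, from a subgroup of `Fˣ`. -/
def unitScalar (C : Subgroup Fˣ) : C →* GL (Fin 1) F :=
  (Units.map (Matrix.scalar (Fin 1) : F →+* _).toMonoidHom).comp C.subtype

theorem det_unitScalar (C : Subgroup Fˣ) (c : C) :
    Matrix.GeneralLinearGroup.det (unitScalar C c) = (c : Fˣ) :=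
  Units.ext (by
    rw [Matrix.GeneralLinearGroup.val_det_apply]
    simp [unitScalar])

theorem unitScalar_injective (C : Subgroup Fˣ) : Function.Injective (unitScalar C) := fun a b h =>
  Subtype.ext (by rw [← det_unitScalar C a, h, det_unitScalar])

theorem exists_two_part_units (hq : Fintype.card F % 4 = 1) :
    ∃ C : Subgroup Fˣ, Nat.card C = 2 ^ (Fintype.card F - 1).factorization 2 ∧
      (-1) ∈ C ∧ ∃ i ∈ C, i * i = -1 := by
  classical
  haveI : Fact (Nat.Prime 2) := ⟨Nat.prime_two⟩
  obtain ⟨x, hx⟩ := FiniteField.isSquare_neg_one_iff.2 (show Fintype.card F % 4 ≠ 3 by omega)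
  have hx0 : x ≠ 0 := by rintro rfl; simp at hx
  let u : Fˣ := Units.mk0 x hx0
  have hu : u * u = -1 := Units.ext (by simpa [u] using hx.symm)
  have hp : IsPGroup 2 (Subgroup.zpowers u) := by
    intro z
    obtain ⟨k, hk⟩ := z.2
    refine ⟨2, Subtype.ext ?_⟩
    rw [SubmonoidClass.coe_pow, ← hk, ← zpow_natCast, ← _root_.zpow_mul, mul_comm, _root_.zpow_mul,
      zpow_natCast, show u ^ 2 ^ 2 = (u * u) * (u * u) by rw [show (2 : ℕ) ^ 2 = 2 + 2 from rfl, pow_add, pow_two], hu]
    simp
  obtain ⟨C, hC⟩ := hp.exists_le_sylow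
  refine ⟨C, ?_, ?_, u, hC (Subgroup.mem_zpowers u), hu⟩
  · rw [C.card_eq_multiplicity, LinearGroup.natCard_units_field, Nat.card_eq_fintype_card]
  · rw [← hu]; exact mul_mem (hC (Subgroup.mem_zpowers u)) (hC (Subgroup.mem_zpowers u))

/-- `SL_{2^k}`, `q ≡ 1 mod 4`. -/
theorem sl_pow_two_sqComm (hq : Fintype.card F % 4 = 1) {n k : ℕ} (hn : n = 2 ^ k)
    (S : Sylow 2 (Matrix.SpecialLinearGroup (Fin n) F)) :
    SqComm ↥(S : Subgroup (Matrix.SpecialLinearGroup (Fin n) F)) := by
  classical
  haveI : Fact (Nat.Prime 2) := ⟨Nat.prime_two⟩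
  have hF : Odd (Fintype.card F) := Nat.odd_iff.2 (by omega)
  obtain ⟨C, hC, hCn, u, hu, huu⟩ := exists_two_part_units hq
  obtain ⟨T, ST, hST, hST2, hT⟩ := exists_sylow_perm (Fin n)
  let r : Fin n × Fin 1 ≃ Fin n := Equiv.prodUnique _ _
  let f : Wr ↥C T →* GL (Fin n) F := (glReindex r).toMonoidHom.comp (wrGL (unitScalar C))
  have hf : Function.Injective f := fun a b h =>
    wrGL_injective (unitScalar C) (unitScalar_injective C) ((glReindex r).injective h)
  have hP : Nat.card (Wr ↥C T) = 2 ^ (Nat.card (GL (Fin n) F)).factorization 2 := by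
    rw [card_wr, hC, hT, Fintype.card_fin, ← pow_mul, ← pow_add, factorization_card_GL hF,
      factorization_prod_one_mod_four hq two_le_card]
    congr 1
    ring
  obtain ⟨e⟩ := nonempty_equiv_sylow_SL f hf hP S
  refine sqComm_congr e ?_
  set χ := Matrix.GeneralLinearGroup.det.comp f
  have hχs : ∀ i (c : C), χ (sgl i c) = (c : Fˣ) := fun i c => by
    show Matrix.GeneralLinearGroup.det (glReindex r (wrGL (unitScalar C) (sgl i c))) = _
    rw [det_glReindex, det_sgl, det_unitScalar]
  have hχσ : ∀ σ : T, χ (SemidirectProduct.inr σ) = 1 ∨ χ (SemidirectProduct.inr σ) = -1 := by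
    intro σ
    have h : ((χ (SemidirectProduct.inr σ) : Fˣ) : F) = ((Perm.sign (σ : Perm (Fin n)) : ℤ) : F) := by
      show ((Matrix.GeneralLinearGroup.det (glReindex r (wrGL (unitScalar C)
        (SemidirectProduct.inr σ))) : Fˣ) : F) = _
      rw [det_glReindex, det_inr, Fintype.card_fin, pow_one]
    rcases Int.units_eq_one_or (Perm.sign (σ : Perm (Fin n))) with hs | hs <;> rw [hs] at h
    · exact Or.inl (Units.ext (by simpa using h))
    · exact Or.inr (Units.ext (by simpa using h))
  have hmemC : ∀ σ : T, (χ (SemidirectProduct.inr σ))⁻¹ ∈ C := fun σ => by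
    rcases hχσ σ with h | h <;> rw [h]
    · simp
    · exact inv_mem hCn
  haveI : NeZero n := ⟨by rw [hn]; positivity⟩
  let i0 : Fin n := 0
  let π : ↥χ.ker →* Abelianization ↥χ.ker := Abelianization.of
  -- base elements
  have hΦmem : ∀ x : Fin n → C, (SemidirectProduct.inl x * sgl i0 (∏ i, x i)⁻¹ : Wr ↥C T) ∈ χ.ker := by
    intro x
    rw [MonoidHom.mem_ker, map_mul, hχs]
    have h : χ (SemidirectProduct.inl x : Wr ↥C T) = ∏ i, (x i : Fˣ) := by
      refine Units.ext ?_
      show ((Matrix.GeneralLinearGroup.det (glReindex r (wrGL (unitScalar C)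
        (SemidirectProduct.inl x))) : Fˣ) : F) = _
      rw [det_glReindex, Matrix.GeneralLinearGroup.val_det_apply, coe_wrGL, det_wrMatrix_inl,
        Units.coe_prod]
      refine Finset.prod_congr rfl fun i _ => ?_
      rw [← Matrix.GeneralLinearGroup.val_det_apply, det_unitScalar]
    rw [h, Subgroup.coe_inv, SubmonoidClass.coe_finsetProd, mul_inv_cancel]
  let Φ : (Fin n → C) →* ↥χ.ker := MonoidHom.mk'
    (fun x => ⟨_, hΦmem x⟩) fun x y => Subtype.ext (by
      show _ = (SemidirectProduct.inl x * sgl i0 (∏ i, x i)⁻¹) *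
        (SemidirectProduct.inl y * sgl i0 (∏ i, y i)⁻¹)
      simp only [sgl_apply, ← map_mul]
      congr 1
      rw [Pi.mul_def (f := x) (g := y)]
      simp only [Finset.prod_mul_distrib, mul_inv, Pi.mulSingle_mul]
      funext i
      simp only [Pi.mul_apply]
      exact mul_mul_mul_comm _ _ _ _)
  let δ : Fin n → C → ↥χ.ker := fun i c => Φ (Pi.mulSingle i c)
  have hδval : ∀ i c, (δ i c).1 = sgl i c * sgl i0 c⁻¹ := fun i c => by
    show SemidirectProduct.inl _ * sgl i0 (∏ j, (Pi.mulSingle i c : Fin n → C) j)⁻¹ = _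
    rw [Finset.prod_pi_mulSingle']
    simp [sgl_apply]
  -- lifts
  let eps : T → C := fun σ => ⟨(χ (SemidirectProduct.inr σ))⁻¹, hmemC σ⟩
  let lift : T → ↥χ.ker := fun σ =>
    ⟨sgl i0 (eps σ) * SemidirectProduct.inr σ, by
      rw [MonoidHom.mem_ker, map_mul, hχs, inv_mul_cancel]⟩
  have hbasecomm : ∀ (a : C) (i : Fin n) (x : Fin n → C),
      (sgl i a : Wr ↥C T) * SemidirectProduct.inl x = SemidirectProduct.inl x * sgl i a := by
    intro a i x
    rw [sgl_apply, ← map_mul, ← map_mul, mul_comm]
  have hconj : ∀ (σ : T) (i : Fin n) (c : C), π (δ i c) =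
      π (δ ((σ : Perm (Fin n)) i) c) * (π (δ ((σ : Perm (Fin n)) i0) c))⁻¹ := by
    intro σ i c
    have h1 : lift σ * δ i c * (lift σ)⁻¹ =
        δ ((σ : Perm (Fin n)) i) c * (δ ((σ : Perm (Fin n)) i0) c)⁻¹ := by
      refine Subtype.ext ?_
      simp only [Subgroup.coe_mul, Subgroup.coe_inv, hδval, lift]
      rw [mul_inv_rev]
      have hA : (SemidirectProduct.inr σ : Wr ↥C T) * (sgl i c * sgl i0 c⁻¹) *
          (SemidirectProduct.inr σ)⁻¹ = sgl ((σ : Perm (Fin n)) i) c * sgl ((σ : Perm (Fin n)) i0) c⁻¹ := by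
        rw [← inr_mul_sgl σ i c, ← inr_mul_sgl σ i0 c⁻¹]
        group
      calc _ = sgl i0 (eps σ) * ((SemidirectProduct.inr σ : Wr ↥C T) * (sgl i c * sgl i0 c⁻¹) *
            (SemidirectProduct.inr σ)⁻¹) * (sgl i0 (eps σ))⁻¹ := by group
        _ = sgl ((σ : Perm (Fin n)) i) c * sgl ((σ : Perm (Fin n)) i0) c⁻¹ := by
          rw [hA, sgl_apply ((σ : Perm (Fin n)) i), sgl_apply ((σ : Perm (Fin n)) i0), ← map_mul,
            hbasecomm, mul_assoc, mul_inv_cancel, mul_one]
        _ = _ := by
          simp only [sgl_apply, ← map_mul, ← map_inv]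
          congr 1
          funext j
          simp only [Pi.mul_apply, Pi.inv_apply, Pi.mulSingle_apply]
          split_ifs <;> simp
    have h2 := congrArg π h1
    rw [map_mul, map_mul, map_mul, map_inv, map_inv, mul_right_comm, mul_inv_cancel, one_mul] at h2
    exact h2
  have hδ2 : ∀ i c, π (δ i c) ^ 2 = 1 := by
    intro i c
    have hgen : ∀ σ : T, π (δ ((σ : Perm (Fin n)) i0) c) ^ 2 = 1 := by
      intro σ
      have hσ : (σ : Perm (Fin n)) ∈ Subgroup.closure ST := by rw [hST]; exact σ.2
      suffices h : ∀ τ ∈ Subgroup.closure ST, ∀ h : τ ∈ T,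
          π (δ (((⟨τ, h⟩ : T) : Perm (Fin n)) i0) c) ^ 2 = 1 from h _ hσ σ.2
      intro τ hτ
      induction hτ using Subgroup.closure_induction with
      | mem s hs =>
        intro h
        have hc := hconj ⟨s, h⟩ (s i0) c
        have hss : s (s i0) = i0 := by
          have := congrArg (fun z : Perm (Fin n) => z i0) (hST2 s hs)
          simpa [pow_two] using this
        rw [show ((⟨s, h⟩ : T) : Perm (Fin n)) (s i0) = i0 from hss,
          show δ i0 c = 1 from Subtype.ext (by rw [hδval, ← map_mul, mul_inv_cancel, map_one]; rfl),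
          map_one, one_mul] at hc
        show π (δ (s i0) c) ^ 2 = 1
        rw [pow_two]
        nth_rewrite 1 [hc]
        exact inv_mul_cancel _
      | one =>
        intro h
        show π (δ i0 c) ^ 2 = 1
        rw [show δ i0 c = 1 from Subtype.ext (by rw [hδval, ← map_mul, mul_inv_cancel, map_one]; rfl),
          map_one, one_pow]
      | mul a b ha hb iha ihb =>
        intro h
        have haT : a ∈ T := hST ▸ ha
        have hbT : b ∈ T := hST ▸ hb
        have hc := hconj ⟨a, haT⟩ (b i0) c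
        rw [eq_mul_inv_iff_mul_eq] at hc
        show π (δ (a (b i0)) c) ^ 2 = 1
        rw [← show π (δ (b i0) c) * π (δ (a i0) c) = π (δ (a (b i0)) c) from hc, mul_pow,
          show π (δ (b i0) c) ^ 2 = 1 from ihb hbT, show π (δ (a i0) c) ^ 2 = 1 from iha haT,
          one_mul]
      | inv a ha iha =>
        intro h
        have haT : a ∈ T := hST ▸ ha
        have hc := hconj ⟨a, haT⟩ (a⁻¹ i0) c
        rw [show ((⟨a, haT⟩ : T) : Perm (Fin n)) (a⁻¹ i0) = i0 from Equiv.apply_symm_apply a i0,
          show δ i0 c = 1 from Subtype.ext (by rw [hδval, ← map_mul, mul_inv_cancel, map_one]; rfl),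
          map_one, one_mul] at hc
        show π (δ (a⁻¹ i0) c) ^ 2 = 1
        rw [hc, inv_pow, show π (δ (a i0) c) ^ 2 = 1 from iha haT, inv_one]
    obtain ⟨σ, hσ⟩ := sylow_perm_transitive hn T (by rw [hT, Fintype.card_fin]) i0 i
    exact hσ ▸ hgen σ
  have hbase : ∀ x, π (Φ x) ^ 2 = 1 := by
    intro x
    exact Subgroup.pi_mem_of_mulSingle_mem (H := ((powMonoidHom 2).comp (π.comp Φ)).ker) x
      fun i => hδ2 i _
  have hker : ∀ z : ↥χ.ker, z.1.right = 1 → π z ^ 2 = 1 := by
    intro z hz
    have hz' : z = Φ z.1.left := by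
      refine Subtype.ext ?_
      show z.1 = SemidirectProduct.inl z.1.left * sgl i0 (∏ i, z.1.left i)⁻¹
      have hzi : z.1 = SemidirectProduct.inl z.1.left := SemidirectProduct.ext rfl hz
      have h1 := hΦmem z.1.left
      rw [MonoidHom.mem_ker, map_mul, ← hzi, MonoidHom.mem_ker.1 z.2, one_mul, hχs] at h1
      rw [show (∏ i, z.1.left i)⁻¹ = 1 from Subtype.ext h1, map_one, mul_one, ← hzi]
    rw [hz']; exact hbase _
  intro z
  rw [← Abelianization.ker_of, MonoidHom.mem_ker, map_pow]
  suffices h : ∀ σ : T, ∃ z : ↥χ.ker, z.1.right = σ ∧ π z ^ 2 = 1 by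
    obtain ⟨w, hw, hw2⟩ := h z.1.right
    have h0 : (z * w⁻¹).1.right = 1 := by
      simp [SemidirectProduct.mul_right, SemidirectProduct.inv_right, hw]
    have := hker _ h0
    rw [map_mul, mul_pow, map_inv, inv_pow, hw2, inv_one, mul_one] at this
    exact this
  intro σ
  have hσ : (σ : Perm (Fin n)) ∈ Subgroup.closure ST := by rw [hST]; exact σ.2
  suffices h : ∀ τ ∈ Subgroup.closure ST, ∀ h : τ ∈ T,
      ∃ z : ↥χ.ker, z.1.right = ⟨τ, h⟩ ∧ π z ^ 2 = 1 from h _ hσ σ.2
  intro τ hτ
  induction hτ using Subgroup.closure_induction with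
  | mem s hs =>
    intro h
    refine ⟨lift ⟨s, h⟩, ?_, ?_⟩
    · simp [lift, sgl_apply, SemidirectProduct.mul_right]
    · have hsinv : (⟨s, h⟩ : T)⁻¹ = ⟨s, h⟩ := inv_eq_of_mul_eq_one_left
        (Subtype.ext (by simpa [pow_two] using hST2 s hs))
      rcases hχσ ⟨s, h⟩ with h1 | h1
      · have he : lift ⟨s, h⟩ ^ 2 = 1 := by
          refine Subtype.ext ?_
          have hε : eps ⟨s, h⟩ = 1 := Subtype.ext (by simp [eps, h1])
          simp only [lift, SubmonoidClass.coe_pow, Subgroup.coe_one, hε, map_one, one_mul]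
          rw [← map_pow, show (⟨s, h⟩ : T) ^ 2 = 1 from Subtype.ext (by simpa using hST2 s hs), map_one]
        rw [← map_pow, he, map_one]
      · let c : C := ⟨u, hu⟩
        have hcc : eps ⟨s, h⟩ = c * c := Subtype.ext (by simp [eps, h1, c, huu])
        have hc4 : (c * c)⁻¹ = c * c := Subtype.ext (by simp [c, huu])
        have he : lift ⟨s, h⟩ ^ 2 = (δ (s i0) c)⁻¹ ^ 2 := by
          refine Subtype.ext ?_
          simp only [lift, SubmonoidClass.coe_pow, Subgroup.coe_inv, hδval, hcc]
          have hsw := inr_mul_sgl (W := ↥C) (⟨s, h⟩ : T) i0 (c * c)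
          calc (sgl i0 (c * c) * SemidirectProduct.inr (⟨s, h⟩ : T)) ^ 2
              = sgl i0 (c * c) * ((SemidirectProduct.inr (⟨s, h⟩ : T) : Wr ↥C T) * sgl i0 (c * c) *
                  (SemidirectProduct.inr (⟨s, h⟩ : T))⁻¹) *
                ((SemidirectProduct.inr (⟨s, h⟩ : T) : Wr ↥C T) ^ 2) := by
                rw [pow_two, pow_two]; group
            _ = sgl i0 (c * c) * sgl (s i0) (c * c) := by
              rw [hsw, ← map_pow, show (⟨s, h⟩ : T) ^ 2 = 1 from
                Subtype.ext (by simpa using hST2 s hs), map_one, mul_one]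
            _ = ((sgl (s i0) c * sgl i0 c⁻¹)⁻¹) ^ 2 := by
              nth_rewrite 2 [← hc4]
              simp only [pow_two, sgl_apply, ← map_mul, ← map_inv]
              congr 1
              funext i
              simp only [Pi.mul_apply, Pi.inv_apply, Pi.mulSingle_apply]
              split_ifs <;> simp
        rw [← map_pow, he, map_pow, map_inv, inv_pow, hδ2, inv_one]
  | one => intro h; exact ⟨1, rfl, by simp⟩
  | mul a b ha hb iha ihb =>
    intro h
    obtain ⟨x, hx, hx2⟩ := iha (hST ▸ ha)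
    obtain ⟨y, hy, hy2⟩ := ihb (hST ▸ hb)
    exact ⟨x * y, by simp [SemidirectProduct.mul_right, hx, hy], by
      rw [map_mul, mul_pow, hx2, hy2, one_mul]⟩
  | inv a ha iha =>
    intro h
    obtain ⟨x, hx, hx2⟩ := iha (hST ▸ ha)
    exact ⟨x⁻¹, by simp [SemidirectProduct.inv_right, hx]; rfl, by
      rw [map_inv, inv_pow, hx2, inv_one]⟩

/-! ### Normal 2-rank -/

/-- An involution of `W` commuting with its conjugates is scalar. -/
theorem eq_scalar_of_commute (hq : Fintype.card F % 4 = 3) {W : Subgroup (GL (Fin 2) F)} {w : ℕ}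
    (hW : Nat.card W = 2 ^ w)
    (hQ : 8 ≤ Nat.card ↥(Matrix.GeneralLinearGroup.det.ker.subgroupOf W)) (x : W) (hx : x * x = 1)
    (hc : ∀ g : W, Commute (g * x * g⁻¹) x) :
    ((x : GL (Fin 2) F) : Matrix (Fin 2) (Fin 2) F) = 1 ∨
      ((x : GL (Fin 2) F) : Matrix (Fin 2) (Fin 2) F) = -1 := by
  classical
  by_contra hne
  push Not at hne
  have hF : Odd (Fintype.card F) := Nat.odd_iff.2 (by omega)
  have h2 := two_ne_zero_of_odd_card hF
  set A : Matrix (Fin 2) (Fin 2) F := ((x : GL (Fin 2) F) : Matrix (Fin 2) (Fin 2) F) with hA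
  have hAA : A * A = 1 := congrArg (fun z : W => ((z : GL (Fin 2) F) : Matrix (Fin 2) (Fin 2) F)) hx
  obtain ⟨b, s, hs, hpm, -⟩ := TwoRank.exists_eigenbasis h2 (fun _ : Unit => A) (fun _ => hAA)
    (fun _ _ => rfl)
  have hs01 : s () 0 ≠ s () 1 := by
    intro e
    have hAe : ∀ c : F, s () 0 = c → A = c • (1 : Matrix (Fin 2) (Fin 2) F) := by
      intro c hc0
      refine Matrix.toLin'.injective (b.ext fun i => ?_)
      rw [Matrix.toLin'_apply, Matrix.toLin'_apply, hs () i, Matrix.smul_mulVec, Matrix.one_mulVec]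
      fin_cases i
      · rw [← hc0]; rfl
      · rw [← hc0, e]; rfl
    rcases hpm () 0 with h | h
    · exact hne.1 (by rw [hAe 1 h, one_smul])
    · exact hne.2 (by rw [hAe (-1) h, neg_one_smul])
  -- coordinates in the eigenbasis
  let Ψ : Matrix (Fin 2) (Fin 2) F ≃ₐ[F] Matrix (Fin 2) (Fin 2) F :=
    Matrix.toLinAlgEquiv'.trans (LinearMap.toMatrixAlgEquiv b)
  have hΨA : Ψ A = Matrix.diagonal (s ()) := by
    ext i j
    show LinearMap.toMatrix b b (Matrix.toLin' A) i j = _
    rw [LinearMap.toMatrix_apply, Matrix.toLin'_apply, hs () j, map_smul, b.repr_self]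
    by_cases hij : i = j
    · subst hij; simp
    · simp [Matrix.diagonal_apply_ne _ hij, hij]
  have hsd : s () 0 - s () 1 ≠ 0 := sub_ne_zero.2 hs01
  have hdiag : ∀ B : Matrix (Fin 2) (Fin 2) F, Commute B (Matrix.diagonal (s ())) →
      B 0 1 = 0 ∧ B 1 0 = 0 := by
    intro B hB
    have h01 := congrFun (congrFun hB.eq 0) 1
    have h10 := congrFun (congrFun hB.eq 1) 0
    simp [Matrix.mul_apply, Fin.sum_univ_two] at h01 h10
    constructor
    · exact (mul_eq_zero.1 (show (s () 0 - s () 1) * B 0 1 = 0 by linear_combination -h01)).resolve_left hsd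
    · exact (mul_eq_zero.1 (show (s () 0 - s () 1) * B 1 0 = 0 by linear_combination h10)).resolve_left hsd
  let μ : W →* Matrix (Fin 2) (Fin 2) F :=
    (Ψ.toRingEquiv.toMonoidHom).comp ((Units.coeHom _).comp W.subtype)
  have hμ : Function.Injective μ := fun a c h => Subtype.ext (Units.ext (Ψ.injective h))
  have hμx : μ x = Matrix.diagonal (s ()) := hΨA
  have hs2 : s () 1 = -s () 0 := by
    rcases hpm () 0 with h | h <;> rcases hpm () 1 with h' | h' <;> rw [h, h'] at hs01 ⊢
    · exact absurd rfl hs01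
    · simp
    · exact absurd rfl hs01
  -- conjugates of `x` in these coordinates
  have hconj : ∀ g : W, g * x * g⁻¹ = x ∨ ∀ g' : W, g' * x * g'⁻¹ ≠ x → g' * x * g'⁻¹ = g * x * g⁻¹ := by
    intro g
    by_cases hg : g * x * g⁻¹ = x
    · exact Or.inl hg
    refine Or.inr fun g' hg' => ?_
    have key : ∀ k : W, k * x * k⁻¹ ≠ x → μ (k * x * k⁻¹) = -Matrix.diagonal (s ()) := by
      intro k hk
      obtain ⟨z01, z10⟩ := hdiag (μ (k * x * k⁻¹)) (hμx ▸ (hc k).map μ)
      set B := μ (k * x * k⁻¹) with hB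
      have hBB : B * B = 1 := by
        rw [hB, ← map_mul, show k * x * k⁻¹ * (k * x * k⁻¹) = k * (x * x) * k⁻¹ by group, hx,
          mul_one, mul_inv_cancel, map_one]
      have hdetB : B.det = -1 := by
        rw [hB, map_mul, map_mul, Matrix.det_mul, Matrix.det_mul, mul_right_comm, ← Matrix.det_mul,
          ← map_mul, mul_inv_cancel, map_one, Matrix.det_one, one_mul, hμx, Matrix.det_diagonal,
          Fin.prod_univ_two, hs2]
        rcases hpm () 0 with h | h <;> rw [h] <;> simp
      rw [Matrix.det_fin_two, z01, zero_mul, sub_zero] at hdetB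
      have b00 := congrFun (congrFun hBB 0) 0
      simp [Matrix.mul_apply, Fin.sum_univ_two, z01, z10] at b00
      have hB1 : B 1 1 = -B 0 0 := by linear_combination B 0 0 * hdetB - B 1 1 * b00
      have hB0 : B 0 0 = -s () 0 := by
        have hsq : s () 0 * s () 0 = 1 := by rcases hpm () 0 with h | h <;> rw [h] <;> simp
        rcases mul_self_eq_mul_self_iff.1 (b00.trans hsq.symm) with h | h
        · exfalso
          apply hk
          refine hμ ?_
          rw [hμx, ← hB]
          ext i j
          fin_cases i <;> fin_cases j <;> simp [z01, z10, hB1, h, hs2]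
        · exact h
      ext i j
      fin_cases i <;> fin_cases j <;> simp [z01, z10, hB1, hB0, hs2]
    exact hμ ((key g' hg').trans (key g hg).symm)
  -- at most four elements of determinant one
  set Q := Matrix.GeneralLinearGroup.det.ker.subgroupOf W
  have hQp : IsPGroup 2 W := IsPGroup.of_card hW
  have hsmall : ∀ g : Q, (g : W) * x * (g : W)⁻¹ = x → μ (g : W) = 1 ∨ μ (g : W) = -1 := by
    intro g hg
    have hcm : Commute (g : W) x := mul_inv_eq_iff_eq_mul.1 hg
    obtain ⟨z01, z10⟩ := hdiag (μ (g : W)) (hμx ▸ hcm.map μ)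
    obtain ⟨k, hk⟩ := hQp (g : W)
    have hpow : ∀ i, (μ (g : W) i i) ^ 2 ^ k = 1 := by
      have hd : μ (g : W) = Matrix.diagonal fun i => μ (g : W) i i := by
        ext i j; fin_cases i <;> fin_cases j <;> simp [z01, z10]
      intro i
      have h := congrArg μ hk
      rw [map_pow, map_one, hd, Matrix.diagonal_pow] at h
      have h' := congrFun (congrFun h i) i
      simpa using h'
    have hd1 : μ (g : W) 0 0 * μ (g : W) 1 1 = 1 := by
      have hdet : (μ (g : W)).det = 1 := by
        show (Ψ _).det = 1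
        show (LinearMap.toMatrix b b (Matrix.toLin' _)).det = 1
        rw [LinearMap.det_toMatrix, LinearMap.det_toLin']
        exact congrArg Units.val (g.2 : Matrix.GeneralLinearGroup.det _ = 1)
      rwa [Matrix.det_fin_two, z01, zero_mul, sub_zero] at hdet
    have h00 : μ (g : W) 0 0 ≠ 0 := fun e => by rw [e, zero_mul] at hd1; exact zero_ne_one hd1
    have hsq := sq_eq_one_of_pow_two_pow (c := Units.mk0 _ h00) hq (k := k)
      (Units.ext (by simpa using hpow 0))
    have hsq' : μ (g : W) 0 0 * μ (g : W) 0 0 = 1 := by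
      simpa [pow_two] using congrArg Units.val hsq
    rcases mul_self_eq_one_iff.1 hsq' with h | h
    · left
      have h11 : μ (g : W) 1 1 = 1 := by rw [h, one_mul] at hd1; exact hd1
      ext i j; fin_cases i <;> fin_cases j <;> simp [z01, z10, h, h11]
    · right
      have h11 : μ (g : W) 1 1 = -1 := by rw [h] at hd1; linear_combination -hd1
      ext i j; fin_cases i <;> fin_cases j <;> simp [z01, z10, h, h11]
  have hcount : Nat.card Q ≤ 4 := by
    let S1 : Subgroup Q :=
      (MulAction.stabilizer (ConjAct W) x).comap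
        ((ConjAct.toConjAct : W ≃* ConjAct W).toMonoidHom.comp Q.subtype)
    have hS1 : ∀ g : Q, g ∈ S1 ↔ (g : W) * x * (g : W)⁻¹ = x := fun g => Iff.rfl
    have hidx : S1.index ≤ 2 := by
      by_cases hall : ∀ g : Q, g ∈ S1
      · rw [show S1 = ⊤ from eq_top_iff.2 fun g _ => hall g, Subgroup.index_top]; omega
      push Not at hall
      obtain ⟨g0, hg0⟩ := hall
      have hdich : ∀ g : Q, g ∈ S1 ∨ g0⁻¹ * g ∈ S1 := by
        intro g
        by_cases hg : g ∈ S1
        · exact Or.inl hg
        refine Or.inr ?_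
        rw [hS1] at hg hg0 ⊢
        have e := ((hconj (g0 : W)).resolve_left hg0) (g : W) hg
        calc ((g0⁻¹ * g : Q) : W) * x * ((g0⁻¹ * g : Q) : W)⁻¹ =
            (g0 : W)⁻¹ * ((g : W) * x * (g : W)⁻¹) * (g0 : W) := by
              push_cast; group
          _ = x := by rw [e]; group
      have : Nat.card (Q ⧸ S1) ≤ 2 := by
        refine (Nat.card_le_card_of_surjective
          (fun b : Bool => (QuotientGroup.mk (if b then 1 else g0) : Q ⧸ S1)) ?_).trans (by simp)
        intro z
        obtain ⟨g, rfl⟩ := QuotientGroup.mk_surjective z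
        rcases hdich g with h | h
        · exact ⟨true, QuotientGroup.eq.2 (by simpa using h)⟩
        · exact ⟨false, QuotientGroup.eq.2 (by simpa using h)⟩
      exact this
    have hS2 : Nat.card S1 ≤ 2 := by
      refine (Nat.card_le_card_of_injective
        (fun g : S1 => decide (μ ((g : Q) : W) = 1)) ?_).trans (by simp)
      intro g h e
      have e' : (μ ((g : Q) : W) = 1) ↔ (μ ((h : Q) : W) = 1) := by simpa using e
      refine Subtype.ext (Subtype.ext (hμ ?_))
      rcases hsmall _ ((hS1 _).1 g.2) with a | a <;> rcases hsmall _ ((hS1 _).1 h.2) with c | c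
      · rw [a, c]
      · rw [a, e'.1 a]
      · rw [c, e'.2 c]
      · rw [a, c]
    rw [← S1.card_mul_index]
    calc Nat.card S1 * S1.index ≤ 2 * 2 := Nat.mul_le_mul hS2 hidx
      _ = 4 := rfl
  omega

theorem gl_normal_rank_one (hq : Fintype.card F % 4 = 1) (n : ℕ)
    (S : Sylow 2 (GL (Fin n) F)) :
    (∃ E : Subgroup ↥(S : Subgroup (GL (Fin n) F)), E.Normal ∧ Cfsg.IsElementaryAbelian 2 E ∧
        2 ^ n ≤ Nat.card ↥E) ∧
      ∀ E : Subgroup ↥(S : Subgroup (GL (Fin n) F)), E.Normal → Cfsg.IsElementaryAbelian 2 E →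
        Nat.card ↥E ≤ 2 ^ n := by
  classical
  haveI : Fact (Nat.Prime 2) := ⟨Nat.prime_two⟩
  have hF : Odd (Fintype.card F) := Nat.odd_iff.2 (by omega)
  have h2 := two_ne_zero_of_odd_card hF
  constructor
  · obtain ⟨C, hC, hCn, -⟩ := exists_two_part_units hq
    obtain ⟨T, ST, -, -, hT⟩ := exists_sylow_perm (Fin n)
    let r : Fin n × Fin 1 ≃ Fin n := Equiv.prodUnique _ _
    let f : Wr ↥C T →* GL (Fin n) F := (glReindex r).toMonoidHom.comp (wrGL (unitScalar C))
    have hf : Function.Injective f := fun a b h =>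
      wrGL_injective (unitScalar C) (unitScalar_injective C) ((glReindex r).injective h)
    have hP : Nat.card (Wr ↥C T) = 2 ^ (Nat.card (GL (Fin n) F)).factorization 2 := by
      rw [card_wr, hC, hT, Fintype.card_fin, ← pow_mul, ← pow_add, factorization_card_GL hF,
        factorization_prod_one_mod_four hq two_le_card]
      congr 1
      ring
    obtain ⟨e⟩ := nonempty_equiv_sylow f hf hP S
    let E0 : Subgroup (Wr ↥C T) :=
      ((powMonoidHom 2 : (Fin n → ↥C) →* (Fin n → ↥C)).ker).map SemidirectProduct.inl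
    have hn0 : E0.Normal := by
      refine ⟨fun x hx g => ?_⟩
      obtain ⟨a, ha, rfl⟩ := hx
      refine ⟨fun i => a ((g.right : Perm (Fin n)).symm i), funext fun i => congrFun ha _, ?_⟩
      rw [eq_mul_inv_iff_mul_eq]
      refine SemidirectProduct.ext (funext fun i => ?_) ?_
      · simp [SemidirectProduct.mul_left, mul_comm]
      · simp [SemidirectProduct.mul_right]
    refine ⟨E0.map e.toMonoidHom, hn0.map e.toMonoidHom e.surjective, ⟨?_, ?_⟩, ?_⟩
    · refine ⟨⟨?_⟩⟩
      rintro ⟨_, _, ⟨a, -, rfl⟩, rfl⟩ ⟨_, _, ⟨b, -, rfl⟩, rfl⟩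
      refine Subtype.ext ?_
      show e.toMonoidHom (SemidirectProduct.inl a) * e.toMonoidHom (SemidirectProduct.inl b) = _ * _
      rw [← map_mul, ← map_mul, ← map_mul, ← map_mul, mul_comm]
    · rintro _ ⟨_, ⟨a, ha, rfl⟩, rfl⟩
      rw [← map_pow, ← map_pow, show a ^ 2 = 1 from ha, map_one, map_one]
    · rw [Subgroup.card_map_of_injective e.injective,
        Subgroup.card_map_of_injective SemidirectProduct.inl_injective]
      let m1 : ↥C := ⟨-1, hCn⟩
      have hm1 : m1 ≠ 1 := fun h => h2 (by
        have h' : ((-1 : Fˣ) : F) = 1 := by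
          rw [show (-1 : Fˣ) = ((1 : ↥C) : Fˣ) from congrArg Subtype.val h]; simp
        simp at h'
        linear_combination (-1 : F) * h')
      let ψ : (Fin n → Bool) → ↥((powMonoidHom 2 : (Fin n → ↥C) →* (Fin n → ↥C)).ker) := fun x =>
        ⟨fun i => if x i then m1 else 1, funext fun i => Subtype.ext (by cases x i <;> simp [m1])⟩
      refine le_trans (by simp [Nat.card_fun]) (Nat.card_le_card_of_injective ψ ?_)
      intro a b h
      funext i
      have h' : (if a i then m1 else 1) = (if b i then m1 else 1) :=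
        congrFun (congrArg Subtype.val h) i
      cases ha : a i <;> cases hb : b i <;> simp [ha, hb] at h' ⊢
      · exact hm1 h'.symm
      · exact hm1 h'
  · intro E _ hE
    have := hE.1
    obtain ⟨b, s, hs, hpm, -⟩ := TwoRank.exists_eigenbasis h2
      (fun a : E => ((a.1.1 : GL (Fin n) F) : Matrix (Fin n) (Fin n) F))
      (fun a => by
        have h := congrArg (fun z : ↥(S : Subgroup (GL (Fin n) F)) =>
          ((z : GL (Fin n) F) : Matrix (Fin n) (Fin n) F)) (hE.2 a.1 a.2)
        simpa [pow_two] using h)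
      (fun a a' => congrArg (fun z : E => ((z.1.1 : GL (Fin n) F) : Matrix (Fin n) (Fin n) F))
        (mul_comm' a a'))
    refine (TwoRank.card_le_two_pow (F := F) (fun a i => s a i) hpm ?_).trans (by simp)
    intro a a' h
    refine Subtype.ext (Subtype.ext (Units.ext ?_))
    exact TwoRank.eq_of_eigen (fun a : E => ((a.1.1 : GL (Fin n) F) : Matrix (Fin n) (Fin n) F))
      b s hs fun i => congrFun h i

theorem gl_normal_rank_three (hq : Fintype.card F % 4 = 3) (n : ℕ)
    (S : Sylow 2 (GL (Fin n) F)) :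
    (∃ E : Subgroup ↥(S : Subgroup (GL (Fin n) F)), E.Normal ∧ Cfsg.IsElementaryAbelian 2 E ∧
        2 ^ ((n + 1) / 2) ≤ Nat.card ↥E) ∧
      ∀ E : Subgroup ↥(S : Subgroup (GL (Fin n) F)), E.Normal → Cfsg.IsElementaryAbelian 2 E →
        Nat.card ↥E ≤ 2 ^ ((n + 1) / 2) := by
  classical
  haveI : Fact (Nat.Prime 2) := ⟨Nat.prime_two⟩
  have hF : Odd (Fintype.card F) := Nat.odd_iff.2 (by omega)
  have h2 := two_ne_zero_of_odd_card hF
  obtain ⟨W, y, hWc, -, -, hQc, -, -, -⟩ := exists_gl_two hq
  set m := n / 2 with hm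
  set r := n % 2 with hr
  obtain ⟨T, ST, -, -, hT⟩ := exists_sylow_perm (Fin m)
  let g : (Fin m × Fin 2) ⊕ Fin r ≃ Fin n :=
    ((Equiv.sumCongr finProdFinEquiv (Equiv.refl _)).trans finSumFinEquiv).trans
      (finCongr (by omega))
  let f : Wr ↥W T × (Fin r → ℤˣ) →* GL (Fin n) F :=
    (glReindex g).toMonoidHom.comp (glWr W.subtype)
  have hf : Function.Injective f := (glReindex g).injective.comp
    (glWr_injective h2 W.subtype Subtype.coe_injective)
  have hP : Nat.card (Wr ↥W T × (Fin r → ℤˣ)) =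
      2 ^ (Nat.card (GL (Fin n) F)).factorization 2 := by
    have hne : ∀ i, Fintype.card F ^ (i + 1) - 1 ≠ 0 := fun i => by
      have : 1 < Fintype.card F ^ (i + 1) := one_lt_pow₀ Fintype.one_lt_card (by omega)
      omega
    have hprod : (∏ i ∈ Finset.range n, (Fintype.card F ^ (i + 1) - 1)).factorization 2 =
        m * (1 + (Fintype.card F ^ 2 - 1).factorization 2) + m.factorial.factorization 2 + r := by
      rcases Nat.mod_two_eq_zero_or_one n with h0 | h1
      · rw [show n = 2 * m by omega, factorization_prod_pairs hF two_le_card,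
          factorization_sub_one_of_three hq, show r = 0 by omega, add_zero]
      · rw [show n = 2 * m + 1 by omega, Finset.prod_range_succ,
          Nat.factorization_mul (Finset.prod_ne_zero_iff.2 fun i _ => hne i) (hne _),
          Finsupp.add_apply, factorization_prod_pairs hF two_le_card,
          factorization_odd_exp hF two_le_card ⟨m, rfl⟩,
          factorization_sub_one_of_three hq, show r = 1 by omega]
    rw [Nat.card_prod, card_wr, hWc, hT, Fintype.card_fin, Nat.card_fun,
      Nat.card_eq_fintype_card (α := ℤˣ), Fintype.card_units_int, Nat.card_eq_fintype_card,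
      Fintype.card_fin, ← pow_mul, ← pow_add, ← pow_add, factorization_card_GL hF, hprod]
    congr 1
    ring
  obtain ⟨e⟩ := nonempty_equiv_sylow f hf hP S
  have hdiv : (n + 1) / 2 = m + r := by omega
  rw [hdiv]
  have hQ8 : 8 ≤ Nat.card ↥(Matrix.GeneralLinearGroup.det.ker.subgroupOf W) := by
    rw [hQc]
    calc 8 = 2 ^ 3 := rfl
      _ ≤ _ := Nat.pow_le_pow_right two_pos (three_le_factorization hF two_le_card)
  constructor
  · let m1 : W := ⟨-1, ?_⟩
    swap
    · -- `-1` lies in every Sylow 2-subgroup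
      obtain ⟨g0, hg0⟩ : ∃ g0 : W, (g0 : GL (Fin 2) F) = -1 := by
        have hp : IsPGroup 2 (Subgroup.zpowers (-1 : GL (Fin 2) F)) := by
          intro z
          obtain ⟨k, hk⟩ := z.2
          refine ⟨1, Subtype.ext ?_⟩
          rw [pow_one, SubmonoidClass.coe_pow, ← hk, ← zpow_natCast, ← _root_.zpow_mul, mul_comm,
            _root_.zpow_mul, zpow_natCast, neg_one_sq, one_zpow]
          rfl
        have hGL : Nat.card W = 2 ^ (Nat.card (GL (Fin 2) F)).factorization 2 := by
          rw [hWc, factorization_card_GL hF, show (2 : ℕ) = 2 * 1 from rfl,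
            factorization_prod_pairs hF two_le_card, factorization_sub_one_of_three hq]
          congr 1
          simp
          ring
        obtain ⟨P, hP'⟩ := hp.exists_le_sylow
        obtain ⟨c, hc⟩ := MulAction.exists_smul_eq (GL (Fin 2) F) P (Sylow.ofCard W hGL)
        have hmem : c * (-1) * c⁻¹ ∈ (W : Subgroup (GL (Fin 2) F)) := by
          have : c * (-1) * c⁻¹ ∈ ((Sylow.ofCard W hGL : Sylow 2 (GL (Fin 2) F)) : Subgroup _) := by
            rw [← hc, Sylow.coe_subgroup_smul]
            exact ⟨_, hP' (Subgroup.mem_zpowers _), rfl⟩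
          rwa [Sylow.coe_ofCard] at this
        exact ⟨⟨_, hmem⟩, by simp⟩
      exact hg0 ▸ g0.2
    have hm1c : ∀ w : W, w * m1 = m1 * w := fun w => Subtype.ext (by simp [m1])
    have hm1sq : m1 * m1 = 1 := Subtype.ext (by simp [m1])
    let s : ℤˣ → W := fun u => if u = 1 then 1 else m1
    have hsmul : ∀ u v, s (u * v) = s u * s v := by
      intro u v
      rcases Int.units_eq_one_or u with rfl | rfl <;> rcases Int.units_eq_one_or v with rfl | rfl <;>
        simp [s, hm1sq]
    have hscomm : ∀ u (x : W), x * s u = s u * x := by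
      intro u x
      by_cases hu : u = 1
      · simp [s, hu]
      · simp only [s, if_neg hu]; exact hm1c x
    have hsinj : Function.Injective s := by
      have hne : m1 ≠ 1 := fun h => h2 (by
        have h' : ((-1 : GL (Fin 2) F) : Matrix (Fin 2) (Fin 2) F) 0 0 = 1 := by
          rw [show (-1 : GL (Fin 2) F) = ((1 : W) : GL (Fin 2) F) from congrArg Subtype.val h]; simp
        simp at h'
        linear_combination (-1 : F) * h')
      intro u v h
      rcases Int.units_eq_one_or u with rfl | rfl <;> rcases Int.units_eq_one_or v with rfl | rfl <;>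
        simp [s] at h ⊢
      · exact hne h.symm
      · exact hne h
    let ζ : (Fin m → ℤˣ) × (Fin r → ℤˣ) →* Wr ↥W T × (Fin r → ℤˣ) :=
      MonoidHom.prodMap (SemidirectProduct.inl.comp (MonoidHom.compLeft (MonoidHom.mk' s hsmul) _))
        (MonoidHom.id _)
    have hζ : Function.Injective ζ := fun a b h => Prod.ext
      (funext fun i => hsinj (congrFun (SemidirectProduct.inl_injective (congrArg Prod.fst h)) i))
      (congrArg Prod.snd h :)
    have hn0 : ζ.range.Normal := by
      refine ⟨fun x hx p => ?_⟩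
      obtain ⟨⟨a, ε⟩, rfl⟩ := hx
      refine ⟨(fun i => a ((p.1.right : Perm (Fin m)).symm i), ε), ?_⟩
      rw [eq_mul_inv_iff_mul_eq]
      refine Prod.ext (SemidirectProduct.ext (funext fun i => ?_) ?_) ?_
      · simp [ζ, SemidirectProduct.mul_left, MonoidHom.compLeft, hscomm]
      · simp [ζ, SemidirectProduct.mul_right]
      · simp [ζ, mul_comm]
    refine ⟨ζ.range.map e.toMonoidHom, hn0.map e.toMonoidHom e.surjective, ⟨?_, ?_⟩, ?_⟩
    · refine ⟨⟨?_⟩⟩
      rintro ⟨_, _, ⟨a, rfl⟩, rfl⟩ ⟨_, _, ⟨b, rfl⟩, rfl⟩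
      refine Subtype.ext ?_
      show e.toMonoidHom (ζ a) * e.toMonoidHom (ζ b) = e.toMonoidHom (ζ b) * e.toMonoidHom (ζ a)
      rw [← map_mul, ← map_mul, ← map_mul, ← map_mul, mul_comm]
    · rintro _ ⟨_, ⟨a, rfl⟩, rfl⟩
      rw [← map_pow, ← map_pow, show a ^ 2 = 1 from
        Prod.ext (funext fun i => Int.units_sq _) (funext fun i => Int.units_sq _), map_one, map_one]
    · rw [Subgroup.card_map_of_injective e.injective,
        ← Nat.card_congr (MonoidHom.ofInjective hζ).toEquiv]
      simp [Nat.card_prod, Nat.card_fun, Nat.card_eq_fintype_card, pow_add]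
  · intro E hEn hE
    set E0 := E.map e.symm.toMonoidHom with hE0
    have hn0 : E0.Normal := hEn.map e.symm.toMonoidHom e.symm.surjective
    have hcard : Nat.card E0 = Nat.card E := Subgroup.card_map_of_injective e.symm.injective
    have hsq : ∀ z ∈ E0, z ^ 2 = 1 := by
      rintro _ ⟨a, ha, rfl⟩; rw [← map_pow, hE.2 a ha, map_one]
    have hcomm : ∀ z ∈ E0, ∀ z' ∈ E0, Commute z z' := by
      rintro _ ⟨a, ha, rfl⟩ _ ⟨b, hb, rfl⟩
      have := hE.1
      exact (congrArg Subtype.val (mul_comm' (⟨a, ha⟩ : E) ⟨b, hb⟩) : a * b = b * a) |> fun h =>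
        (show Commute a b from h).map e.symm.toMonoidHom
    obtain ⟨g4, hg4⟩ : ∃ g4 : W, g4 * g4 ≠ 1 := by
      by_contra hcon
      push Not at hcon
      obtain ⟨Q, hQ⟩ : ∃ Q : W, ¬ (((Q : W) : GL (Fin 2) F) : Matrix (Fin 2) (Fin 2) F) = 1 ∧
          ¬ (((Q : W) : GL (Fin 2) F) : Matrix (Fin 2) (Fin 2) F) = -1 := by
        by_contra hcon2
        push Not at hcon2
        have : Nat.card W ≤ 2 := by
          refine (Nat.card_le_card_of_injective
            (fun w : W => decide (((w : GL (Fin 2) F) : Matrix (Fin 2) (Fin 2) F) = 1)) ?_).trans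
              (by simp)
          intro a b hab
          have hab' := decide_eq_decide.1 hab
          refine Subtype.ext (Units.ext ?_)
          by_cases ha : ((a : GL (Fin 2) F) : Matrix (Fin 2) (Fin 2) F) = 1
          · rw [ha, hab'.1 ha]
          · rw [hcon2 a ha, hcon2 b (fun hb => ha (hab'.2 hb))]
        have h4 : 4 ≤ Nat.card W := by
          rw [hWc]
          calc 4 = 2 ^ 2 := rfl
            _ ≤ _ := Nat.pow_le_pow_right two_pos
              (by have := three_le_factorization hF two_le_card; omega)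
        omega
      have hinv : ∀ w : W, w⁻¹ = w := fun w => inv_eq_of_mul_eq_one_left (hcon w)
      have hcm : ∀ a b : W, a * b = b * a := fun a b => by
        calc a * b = (a * b)⁻¹ := (hinv _).symm
          _ = b * a := by rw [mul_inv_rev, hinv, hinv]
      rcases eq_scalar_of_commute hq hWc hQ8 Q (hcon Q) (fun g => by
        rw [hcm g Q, mul_assoc, mul_inv_cancel, mul_one]) with h | h
      · exact hQ.1 h
      · exact hQ.2 h
    have hmul : ∀ (p q : Wr ↥W T), p.right = 1 → ∀ i, (p * q).left i = p.left i * q.left i := by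
      intro p q hp i
      simp [SemidirectProduct.mul_left, hp, Equiv.Perm.one_def]
    have hright : ∀ z ∈ E0, z.1.right = 1 := by
      intro z hz
      by_contra hne
      obtain ⟨i, hi⟩ : ∃ i, (z.1.right : Perm (Fin m)) i ≠ i := by
        by_contra hcon
        push Not at hcon
        exact hne (Subtype.ext (Equiv.ext hcon))
      let a : Wr ↥W T × (Fin r → ℤˣ) := (sgl i g4, 1)
      have hmem : a * z * a⁻¹ * z⁻¹ ∈ E0 := mul_mem (hn0.conj_mem z hz a) (inv_mem hz)
      have h := congrArg (fun p : Wr ↥W T × (Fin r → ℤˣ) => p.1.left i) (hsq _ hmem)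
      have hval : (a * z * a⁻¹ * z⁻¹).1 = sgl i g4 *
          (z.1 * sgl i g4⁻¹ * z.1⁻¹) := by
        simp only [a, Prod.fst_mul, Prod.fst_inv, map_inv]; group
      have hright0 : (a * z * a⁻¹ * z⁻¹).1.right = 1 := by
        rw [hval]
        simp [sgl_apply, SemidirectProduct.mul_right]
      have hleft : (a * z * a⁻¹ * z⁻¹).1.left i = g4 := by
        rw [hval]
        have hne' : (z.1.right : Perm (Fin m)).symm i ≠ i := fun e' =>
          hi (by conv_lhs => rw [← e', Equiv.apply_symm_apply])
        simp [sgl_apply, SemidirectProduct.mul_left, SemidirectProduct.mul_right,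
          SemidirectProduct.inv_left, Pi.mulSingle_eq_of_ne hne', ← Pi.mulSingle_inv]
      apply hg4
      have h' : ((a * z * a⁻¹ * z⁻¹) ^ 2).1.left i = 1 := h
      rw [pow_two, Prod.fst_mul, hmul _ _ hright0, hleft] at h'
      exact h'
    have hscal : ∀ z ∈ E0, ∀ i, ((z.1.left i : GL (Fin 2) F) : Matrix (Fin 2) (Fin 2) F) = 1 ∨
        ((z.1.left i : GL (Fin 2) F) : Matrix (Fin 2) (Fin 2) F) = -1 := by
      intro z hz i
      have hz1 : z.1.left i * z.1.left i = 1 := by
        have h := congrArg (fun p : Wr ↥W T × (Fin r → ℤˣ) => p.1.left i) (hsq z hz)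
        simpa [pow_two, SemidirectProduct.mul_left, hright z hz, Equiv.Perm.one_def] using h
      refine eq_scalar_of_commute hq hWc hQ8 _ hz1 fun w => ?_
      let a : Wr ↥W T × (Fin r → ℤˣ) := (sgl i w, 1)
      have hconjl : (a * z * a⁻¹).1.left i = w * z.1.left i * w⁻¹ := by
        simp [a, sgl_apply, SemidirectProduct.mul_left, SemidirectProduct.mul_right,
          SemidirectProduct.inv_left, hright z hz, Equiv.Perm.one_def]
      have hc := hcomm _ (hn0.conj_mem z hz a) z hz
      have h := congrArg (fun p : Wr ↥W T × (Fin r → ℤˣ) => p.1.left i) hc.eq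
      have h' : ((a * z * a⁻¹).1 * z.1).left i = (z.1 * (a * z * a⁻¹).1).left i := h
      rw [hmul _ _ (hright _ (hn0.conj_mem z hz a)), hmul _ _ (hright z hz), hconjl] at h'
      exact h'
    have h22 : (1 : Matrix (Fin 2) (Fin 2) F) ≠ -1 := fun e' => h2 (by
      have := congrFun (congrFun e' 0) 0
      simp at this
      linear_combination this)
    rw [← hcard]
    let ψ : E0 → (Fin m → Bool) × (Fin r → ℤˣ) := fun z =>
      (fun i => decide (((z.1.1.left i : GL (Fin 2) F) : Matrix (Fin 2) (Fin 2) F) = 1), z.1.2)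
    refine (Nat.card_le_card_of_injective ψ ?_).trans ?_
    · intro z z' hzz
      refine Subtype.ext (Prod.ext (SemidirectProduct.ext (funext fun i => ?_) ?_) (congrArg Prod.snd hzz :))
      · have hi := congrFun (congrArg Prod.fst hzz :) i
        simp only [ψ, decide_eq_decide] at hi
        refine Subtype.ext (Units.ext ?_)
        rcases hscal _ z.2 i with a | a <;> rcases hscal _ z'.2 i with c | c
        · rw [a, c]
        · rw [a, hi.1 a]
        · rw [c, hi.2 c]
        · rw [a, c]
      · rw [hright _ z.2, hright _ z'.2]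
    · simp [Nat.card_prod, Nat.card_fun, Nat.card_eq_fintype_card, pow_add]

end

end Cfsg.Agent.SylTwo
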