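import Cfsg.Agent.Lib.SylTwo.Wreath
import Cfsg.Agent.Lib.SylTwo.GLTwo
import Cfsg.Agent.Lib.Symplectic.Card
import Cfsg.Agent.TwoRank.Diag
import Cfsg.Prelude.Def_Transfer

/-!
The Sylow 2-subgroups of `Sp_{2n}(q)`, `q` odd, as wreath products of quaternion groups.
-/

set_option autoImplicit false

namespace Cfsg.Agent.SylTwo

open Equiv
open scoped Matrix

/-! ### Permutation groups -/

/-- A wreath product acting on pairs. -/
def wrPerm {ι κ : Type*} (T : Subgroup (Perm ι)) : Wr (Perm κ) T →* Perm (ι × κ) where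
  toFun p :=
    { toFun := fun z => ((p.right : Perm ι) z.1, p.left ((p.right : Perm ι) z.1) z.2)
      invFun := fun z => ((p.right : Perm ι).symm z.1, (p.left z.1).symm z.2)
      left_inv := fun z => by simp
      right_inv := fun z => by simp }
  map_one' := Equiv.ext fun z => by simp
  map_mul' p r := Equiv.ext fun z => by
    simp [SemidirectProduct.mul_left, SemidirectProduct.mul_right]

theorem wrPerm_injective {ι κ : Type*} [Nonempty κ] (T : Subgroup (Perm ι)) :
    Function.Injective (wrPerm (κ := κ) T) := by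
  intro p r h
  obtain ⟨b0⟩ := ‹Nonempty κ›
  have hr : p.right = r.right := Subtype.ext (Equiv.ext fun i =>
    congrArg Prod.fst (Equiv.congr_fun h (i, b0)))
  refine SemidirectProduct.ext (funext fun i => Equiv.ext fun b => ?_) hr
  have h1 := congrArg Prod.snd (Equiv.congr_fun h ((p.right : Perm ι).symm i, b))
  simpa [wrPerm, ← hr] using h1

theorem card_perm_fin_two : Nat.card (Perm (Fin 2)) = 2 := by
  rw [Nat.card_perm, Nat.card_eq_fintype_card, Fintype.card_fin]; rfl

/-- Derived length of 2-groups of permutations. -/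
theorem derived_perm_two_group : ∀ (n : ℕ) (R : Subgroup (Perm (Fin n))), IsPGroup 2 R →
    derivedSeries R (Nat.log 2 n) = ⊥ := by
  intro n
  induction n using Nat.strong_induction_on with
  | _ n ih =>
  intro R hR
  haveI : Fact (Nat.Prime 2) := ⟨Nat.prime_two⟩
  rcases Nat.lt_or_ge n 2 with hn | hn
  · haveI : Subsingleton (Fin n) := Fintype.card_le_one_iff_subsingleton.1 (by simp; omega)
    exact Subsingleton.elim _ _
  obtain ⟨T, ST, -, -, hT⟩ := exists_sylow_perm (Fin (n / 2))
  have hTp : IsPGroup 2 T := IsPGroup.of_card hT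
  have hc : Fintype.card (Fin (n / 2) × Fin 2) ≤ Fintype.card (Fin n) := by simp; omega
  obtain ⟨j⟩ := Function.Embedding.nonempty_of_card_le hc
  let f : Wr (Perm (Fin 2)) T →* Perm (Fin n) :=
    (Equiv.Perm.viaEmbeddingHom j).comp (wrPerm T)
  have hf : Function.Injective f :=
    (Equiv.Perm.viaEmbeddingHom_injective j).comp (wrPerm_injective T)
  have hcard : Nat.card (Wr (Perm (Fin 2)) T) =
      2 ^ (Nat.card (Perm (Fin n))).factorization 2 := by
    rw [card_wr, card_perm_fin_two, hT, Fintype.card_fin, ← pow_add, Nat.card_perm,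
      Nat.card_eq_fintype_card, Fintype.card_fin]
    congr 1
    rw [Nat.factorization_def _ Nat.prime_two, Nat.factorization_def _ Nat.prime_two,
      ← padicValNat_mul_div_factorial n, padicValNat_factorial_mul]
    ring
  obtain ⟨P, hP⟩ := hR.exists_le_sylow
  obtain ⟨e⟩ := nonempty_equiv_sylow f hf hcard P
  refine derived_bot_of_injective (e.symm.toMonoidHom.comp (Subgroup.inclusion hP))
    (e.symm.injective.comp (Subgroup.inclusion_injective hP)) ?_
  have h2 : derivedSeries (Perm (Fin 2)) 1 = ⊥ := by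
    rw [derivedSeries_one, commutator_def, Subgroup.commutator_eq_bot_iff_le_centralizer]
    have hc : ∀ x y : Perm (Fin 2), x * y = y * x := by decide
    exact fun x _ => Subgroup.mem_centralizer_iff.2 fun y _ => hc y x
  have h := derived_wr_bot (T := T) h2 (ih (n / 2) (by omega) T hTp)
  rwa [show Nat.log 2 n = Nat.log 2 (n / 2) + 1 by
    rw [Nat.log_div_base]
    have : 0 < Nat.log 2 n := Nat.log_pos one_lt_two hn
    omega]

/-! ### Flattening -/

/-- An iterated wreath product inside a single one. -/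
def wrFlatten {W : Type*} [Group W] {ι κ : Type*} (T : Subgroup (Perm ι))
    (T' : Subgroup (Perm κ)) : Wr (Wr W T) T' →* Wr W (⊤ : Subgroup (Perm (κ × ι))) where
  toFun p := ⟨fun z => (p.left z.1).left z.2,
    ⟨{ toFun := fun z => ((p.right : Perm κ) z.1,
          ((p.left ((p.right : Perm κ) z.1)).right : Perm ι) z.2)
       invFun := fun z => ((p.right : Perm κ).symm z.1, ((p.left z.1).right : Perm ι).symm z.2)
       left_inv := fun z => by simp
       right_inv := fun z => by simp }, trivial⟩⟩
  map_one' := by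
    refine SemidirectProduct.ext rfl (Subtype.ext (Equiv.ext fun z => ?_))
    simp
  map_mul' p r := by
    refine SemidirectProduct.ext (funext fun z => ?_) (Subtype.ext (Equiv.ext fun z => ?_))
    · simp [SemidirectProduct.mul_left, SemidirectProduct.mul_right]
    · simp [SemidirectProduct.mul_left, SemidirectProduct.mul_right]

theorem wrFlatten_injective {W : Type*} [Group W] {ι κ : Type*} [Nonempty ι]
    (T : Subgroup (Perm ι)) (T' : Subgroup (Perm κ)) :
    Function.Injective (wrFlatten (W := W) T T') := by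
  intro p r h
  obtain ⟨j0⟩ := ‹Nonempty ι›
  have hl := congrArg SemidirectProduct.left h
  have hπ := congrArg (fun x => (x.right : Perm (κ × ι))) h
  have hr : p.right = r.right := Subtype.ext (Equiv.ext fun i =>
    congrArg Prod.fst (Equiv.congr_fun hπ (i, j0)))
  refine SemidirectProduct.ext (funext fun i => SemidirectProduct.ext
    (funext fun j => congrFun hl (i, j)) (Subtype.ext (Equiv.ext fun j => ?_))) hr
  have h1 := congrArg Prod.snd (Equiv.congr_fun hπ ((p.right : Perm κ).symm i, j))
  simpa [wrFlatten, ← hr] using h1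

/-- Extending the index set. -/
def wrExtend {W : Type*} [Group W] {ι κ : Type*} :
    Wr W (⊤ : Subgroup (Perm ι)) →* Wr W (⊤ : Subgroup (Perm (ι ⊕ κ))) where
  toFun p := ⟨Sum.elim p.left 1, ⟨Equiv.sumCongr (p.right : Perm ι) 1, trivial⟩⟩
  map_one' := by
    refine SemidirectProduct.ext (funext fun z => ?_) (Subtype.ext (Equiv.ext fun z => ?_)) <;>
      rcases z with z | z <;> simp
  map_mul' p r := by
    refine SemidirectProduct.ext (funext fun z => ?_) (Subtype.ext (Equiv.ext fun z => ?_)) <;>
      rcases z with z | z <;> simp [SemidirectProduct.mul_left, SemidirectProduct.mul_right]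

theorem wrExtend_injective {W : Type*} [Group W] {ι κ : Type*} :
    Function.Injective (wrExtend (W := W) (ι := ι) (κ := κ)) := by
  intro p r h
  refine SemidirectProduct.ext (funext fun i => congrFun (congrArg SemidirectProduct.left h) (Sum.inl i))
    (Subtype.ext (Equiv.ext fun i => ?_))
  exact Sum.inl_injective (Equiv.congr_fun (congrArg (fun x => (x.right : Perm (ι ⊕ κ))) h) (Sum.inl i))

/-- Renaming the index set. -/
def wrRelabel {W : Type*} [Group W] {ι κ : Type*} (e : ι ≃ κ) :
    Wr W (⊤ : Subgroup (Perm ι)) →* Wr W (⊤ : Subgroup (Perm κ)) where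
  toFun p := ⟨fun z => p.left (e.symm z), ⟨e.permCongr (p.right : Perm ι), trivial⟩⟩
  map_one' := by
    refine SemidirectProduct.ext rfl (Subtype.ext (Equiv.ext fun z => ?_))
    simp
  map_mul' p r := by
    refine SemidirectProduct.ext (funext fun z => ?_) (Subtype.ext (Equiv.ext fun z => ?_))
    · simp [SemidirectProduct.mul_left, Equiv.permCongr_def]
    · simp [SemidirectProduct.mul_right]

theorem wrRelabel_injective {W : Type*} [Group W] {ι κ : Type*} (e : ι ≃ κ) :
    Function.Injective (wrRelabel (W := W) e) := by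
  intro p r h
  refine SemidirectProduct.ext (funext fun i => ?_) (Subtype.ext (e.permCongr.injective ?_))
  · simpa [wrRelabel] using congrFun (congrArg SemidirectProduct.left h) (e i)
  · exact congrArg (fun x => (x.right : Perm κ)) h

/-! ### Into the symplectic group -/

variable {F : Type*} [Field F]

/-- Coordinate `a` of pair `i`. -/
def pairEquiv (n : ℕ) : Fin n × Fin 2 ≃ Fin n ⊕ Fin n where
  toFun z := if z.2 = 0 then Sum.inl z.1 else Sum.inr z.1
  invFun := Sum.elim (fun i => (i, 0)) (fun i => (i, 1))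
  left_inv := by
    rintro ⟨i, a⟩
    fin_cases a <;> simp
  right_inv := by rintro (i | i) <;> simp

variable {n : ℕ}

theorem wr_sl_mem (T : Subgroup (Perm (Fin n)))
    (p : Wr (Matrix.SpecialLinearGroup (Fin 2) F) T) :
    (wrMatrix Matrix.SpecialLinearGroup.toGL p).submatrix (pairEquiv n).symm (pairEquiv n).symm ∈
      Matrix.symplecticGroup (Fin n) F := by
  rw [Symplectic.mem_iff_form]
  intro u v
  simp only [Symplectic.sympForm_eq_sum, Matrix.submatrix_mulVec_equiv, Equiv.symm_symm,
    Function.comp_apply]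
  have key : ∀ (w : Fin n ⊕ Fin n → F) (i : Fin n) (a : Fin 2),
      (wrMatrix Matrix.SpecialLinearGroup.toGL p *ᵥ (w ∘ pairEquiv n)) (i, a) =
        (p.left i).1 a 0 * w (Sum.inl ((p.right : Perm (Fin n)).symm i)) +
          (p.left i).1 a 1 * w (Sum.inr ((p.right : Perm (Fin n)).symm i)) := by
    intro w i a
    rw [wrMatrix_mulVec]
    simp [Matrix.mulVec, dotProduct, Fin.sum_univ_two, pairEquiv,
      Matrix.SpecialLinearGroup.toGL]
  simp only [show ∀ i : Fin n, (pairEquiv n).symm (Sum.inl i) = (i, 0) from fun _ => rfl,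
    show ∀ i : Fin n, (pairEquiv n).symm (Sum.inr i) = (i, 1) from fun _ => rfl, key]
  conv_rhs => rw [← Equiv.sum_comp (p.right : Perm (Fin n)).symm]
  refine Finset.sum_congr rfl fun i _ => ?_
  have hdet := (p.left i).2
  rw [Matrix.det_fin_two] at hdet
  linear_combination (u (Sum.inr ((p.right : Perm (Fin n)).symm i)) *
      v (Sum.inl ((p.right : Perm (Fin n)).symm i)) -
    u (Sum.inl ((p.right : Perm (Fin n)).symm i)) *
      v (Sum.inr ((p.right : Perm (Fin n)).symm i))) * hdet

/-- The block monomial subgroup of the symplectic group. -/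
def spWr (T : Subgroup (Perm (Fin n))) :
    Wr (Matrix.SpecialLinearGroup (Fin 2) F) T →* ↥(Matrix.symplecticGroup (Fin n) F) where
  toFun p := ⟨_, wr_sl_mem T p⟩
  map_one' := Subtype.ext (by simp [wrMatrix_one])
  map_mul' p r := Subtype.ext (by
    show (wrMatrix _ (p * r)).submatrix _ _ = _ * _
    rw [wrMatrix_mul, ← Matrix.submatrix_mul_equiv _ _ _ (pairEquiv n).symm])

theorem spWr_injective (T : Subgroup (Perm (Fin n))) :
    Function.Injective (spWr (F := F) T) := by
  intro p r h
  refine wrGL_injective (κ := Fin 2) Matrix.SpecialLinearGroup.toGL LinearGroup.toGL_injective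
    (Units.ext ?_)
  rw [coe_wrGL, coe_wrGL]
  refine (Matrix.reindex (pairEquiv n) (pairEquiv n)).injective ?_
  exact congrArg Subtype.val h

/-- The lift of a homomorphism of the base group. -/
def wrMap {W W' : Type*} [Group W] [Group W'] {ι : Type*} (f : W →* W')
    {T T' : Subgroup (Perm ι)} (hT : T ≤ T') : Wr W T →* Wr W' T' where
  toFun p := ⟨fun i => f (p.left i), Subgroup.inclusion hT p.right⟩
  map_one' := SemidirectProduct.ext (funext fun _ => map_one f) rfl
  map_mul' p r := by
    refine SemidirectProduct.ext (funext fun i => ?_) rfl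
    simp [SemidirectProduct.mul_left]

theorem wrMap_injective {W W' : Type*} [Group W] [Group W'] {ι : Type*} {f : W →* W'}
    (hf : Function.Injective f) {T T' : Subgroup (Perm ι)} (hT : T ≤ T') :
    Function.Injective (wrMap f hT) := by
  intro p r h
  exact SemidirectProduct.ext (funext fun i => hf (congrFun (congrArg SemidirectProduct.left h) i))
    (Subgroup.inclusion_injective hT (congrArg SemidirectProduct.right h))

variable [Fintype F]

/-- A Sylow 2-subgroup of `Sp_{2n}(q)`. -/
theorem exists_sp_sylow (hF : Odd (Fintype.card F)) (n : ℕ)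
    (S : Sylow 2 ↥(Matrix.symplecticGroup (Fin n) F)) :
    ∃ (Q : Subgroup (Matrix.SpecialLinearGroup (Fin 2) F)) (T : Subgroup (Perm (Fin n)))
      (ST : Set (Perm (Fin n))), IsPGroup 2 T ∧ Subgroup.closure ST = T ∧
      (∀ s ∈ ST, s ^ 2 = 1) ∧ SqComm Q ∧ derivedSeries Q 2 = ⊥ ∧ (-1) ∈ Q ∧
      Nonempty (Wr Q T ≃* ↥(S : Subgroup ↥(Matrix.symplecticGroup (Fin n) F))) := by
  haveI : Fact (Nat.Prime 2) := ⟨Nat.prime_two⟩
  obtain ⟨Q, hQc, hQs, hQ2, -, hQn⟩ := exists_sl_two hF
  obtain ⟨T, ST, hST, hST2, hT⟩ := exists_sylow_perm (Fin n)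
  refine ⟨Q, T, ST, IsPGroup.of_card hT, hST, hST2, hQs, hQ2, hQn,
    nonempty_equiv_sylow ((spWr T).comp (wrMap Q.subtype le_rfl))
      ((spWr_injective T).comp (wrMap_injective Subtype.coe_injective le_rfl)) ?_ S⟩
  have h2 : 2 ≤ Fintype.card F := two_le_card
  have hne : (∏ i ∈ Finset.range n, (Fintype.card F ^ (2 * (i + 1)) - 1)) ≠ 0 :=
    Finset.prod_ne_zero_iff.2 fun i _ => by
      have : 1 < Fintype.card F ^ (2 * (i + 1)) := one_lt_pow₀ (by omega) (by omega)
      omega
  rw [card_wr, hQc, hT, Fintype.card_fin, ← pow_mul, ← pow_add, Symplectic.card_Sp rfl n,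
    factorization_two_odd_pow_mul hF _ _ hne, factorization_two_prod_even _ hF h2]
  congr 1
  ring

theorem sp_sqComm (hF : Odd (Fintype.card F)) (n : ℕ)
    (S : Sylow 2 ↥(Matrix.symplecticGroup (Fin n) F)) :
    SqComm ↥(S : Subgroup ↥(Matrix.symplecticGroup (Fin n) F)) := by
  obtain ⟨Q, T, ST, -, hST, hST2, hQs, -, -, ⟨e⟩⟩ := exists_sp_sylow hF n S
  exact sqComm_congr e (sqComm_wr hQs hST hST2)

theorem exists_deep_two_group (hF : Odd (Fintype.card F)) : ∀ r : ℕ,
    ∃ (X : Subgroup (Wr (Matrix.SpecialLinearGroup (Fin 2) F) (⊤ : Subgroup (Perm (Fin (2 ^ r)))))),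
      IsPGroup 2 X ∧ derivedSeries X (r + 1) ≠ ⊥ := by
  haveI : Fact (Nat.Prime 2) := ⟨Nat.prime_two⟩
  intro r
  induction r with
  | zero =>
    obtain ⟨Q, hQc, -, -, hQ1, -⟩ := exists_sl_two hF
    let j : ↥Q →* Wr (Matrix.SpecialLinearGroup (Fin 2) F) (⊤ : Subgroup (Perm (Fin (2 ^ 0)))) :=
      (sgl 0).comp Q.subtype
    have hj : Function.Injective j := (sgl_injective _).comp Subtype.coe_injective
    refine ⟨j.range, (IsPGroup.of_card hQc).of_equiv (MonoidHom.ofInjective hj), fun h => hQ1 ?_⟩
    exact derived_bot_of_injective (MonoidHom.ofInjective hj).toMonoidHom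
      (MonoidHom.ofInjective hj).injective h
  | succ r ih =>
    obtain ⟨X, hX, hXd⟩ := ih
    let e : Fin 2 × Fin (2 ^ r) ≃ Fin (2 ^ (r + 1)) :=
      finProdFinEquiv.trans (finCongr (by ring))
    let j : Wr ↥X (⊤ : Subgroup (Perm (Fin 2))) →*
        Wr (Matrix.SpecialLinearGroup (Fin 2) F) (⊤ : Subgroup (Perm (Fin (2 ^ (r + 1))))) :=
      (wrRelabel e).comp ((wrFlatten _ _).comp (wrMap X.subtype le_rfl))
    have hj : Function.Injective j :=
      (wrRelabel_injective e).comp ((wrFlatten_injective _ _).comp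
        (wrMap_injective Subtype.coe_injective le_rfl))
    have hXw : IsPGroup 2 (Wr ↥X (⊤ : Subgroup (Perm (Fin 2)))) := by
      obtain ⟨k, hk⟩ := IsPGroup.iff_card.1 hX
      refine IsPGroup.of_card (n := k * 2 + 1) ?_
      rw [card_wr, hk, Subgroup.card_top, card_perm_fin_two, Fintype.card_fin, ← pow_mul, pow_succ]
    refine ⟨j.range, hXw.of_equiv (MonoidHom.ofInjective hj), fun h => ?_⟩
    refine derived_wr_two_ne_bot hXd ?_
    rw [add_comm]
    exact derived_bot_of_injective (MonoidHom.ofInjective hj).toMonoidHom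
      (MonoidHom.ofInjective hj).injective h

theorem sp_derived (hF : Odd (Fintype.card F)) (n : ℕ) (hn : 1 ≤ n)
    (S : Sylow 2 ↥(Matrix.symplecticGroup (Fin n) F)) :
    derivedSeries ↥(S : Subgroup ↥(Matrix.symplecticGroup (Fin n) F)) (Nat.log 2 (2 * n) + 1) = ⊥ ∧
      derivedSeries ↥(S : Subgroup ↥(Matrix.symplecticGroup (Fin n) F)) (Nat.log 2 (2 * n)) ≠ ⊥ := by
  haveI : Fact (Nat.Prime 2) := ⟨Nat.prime_two⟩
  have hlog : Nat.log 2 (2 * n) = Nat.log 2 n + 1 := by
    rw [mul_comm, Nat.log_mul_base one_lt_two (by omega)]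
  rw [hlog]
  constructor
  · obtain ⟨Q, T, ST, hTp, -, -, -, hQ2, -, ⟨e⟩⟩ := exists_sp_sylow hF n S
    have h := derived_wr_bot (T := T) hQ2 (derived_perm_two_group n T hTp)
    exact derived_bot_of_injective e.symm.toMonoidHom e.symm.injective
      (by rw [show Nat.log 2 n + 1 + 1 = Nat.log 2 n + 2 from rfl]; exact h)
  · obtain ⟨X, hX, hXd⟩ := exists_deep_two_group (F := F) hF (Nat.log 2 n)
    have hle : 2 ^ Nat.log 2 n ≤ n := Nat.pow_log_le_self 2 (by omega)
    let e : Fin (2 ^ Nat.log 2 n) ⊕ Fin (n - 2 ^ Nat.log 2 n) ≃ Fin n :=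
      finSumFinEquiv.trans (finCongr (by omega))
    let j : ↥X →* ↥(Matrix.symplecticGroup (Fin n) F) :=
      (spWr ⊤).comp ((wrRelabel e).comp (wrExtend.comp X.subtype))
    have hj : Function.Injective j := (spWr_injective _).comp
      ((wrRelabel_injective e).comp (wrExtend_injective.comp Subtype.coe_injective))
    obtain ⟨P, hP⟩ := (hX.of_equiv (MonoidHom.ofInjective hj)).exists_le_sylow
    intro h
    refine hXd (derived_bot_of_injective (H := ↥(S : Subgroup ↥(Matrix.symplecticGroup (Fin n) F)))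
      (((P.equiv S).toMonoidHom).comp ((Subgroup.inclusion hP).comp j.rangeRestrict))
      ((P.equiv S).injective.comp ((Subgroup.inclusion_injective hP).comp fun a b hab =>
        hj (congrArg Subtype.val hab))) h)

theorem sp_normal_rank (hF : Odd (Fintype.card F)) (n : ℕ)
    (S : Sylow 2 ↥(Matrix.symplecticGroup (Fin n) F)) :
    (∃ E : Subgroup ↥(S : Subgroup ↥(Matrix.symplecticGroup (Fin n) F)), E.Normal ∧
        Cfsg.IsElementaryAbelian 2 E ∧ 2 ^ n ≤ Nat.card ↥E) ∧
      ∀ E : Subgroup ↥(S : Subgroup ↥(Matrix.symplecticGroup (Fin n) F)), E.Normal →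
        Cfsg.IsElementaryAbelian 2 E → Nat.card ↥E ≤ 2 ^ n := by
  classical
  have h2 := two_ne_zero_of_odd_card hF
  constructor
  · obtain ⟨Q, T, ST, -, -, -, -, -, hQn, ⟨e⟩⟩ := exists_sp_sylow hF n S
    let s : ℤˣ → ↥Q := fun u => if u = 1 then 1 else ⟨-1, hQn⟩
    have hsmul : ∀ u v, s (u * v) = s u * s v := by
      intro u v
      rcases Int.units_eq_one_or u with rfl | rfl <;> rcases Int.units_eq_one_or v with rfl | rfl <;>
        simp [s]
      ext1
      simp
    have hscomm : ∀ u (x : ↥Q), x * s u = s u * x := by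
      intro u x
      by_cases hu : u = 1
      · simp [s, hu]
      · simp only [s, if_neg hu]
        ext1
        simp
    have hsinj : Function.Injective s := by
      intro u v h
      rcases Int.units_eq_one_or u with rfl | rfl <;> rcases Int.units_eq_one_or v with rfl | rfl <;>
        first
        | rfl
        | (exfalso
           have h' := congrArg (fun z : ↥Q => (z.1 : Matrix (Fin 2) (Fin 2) F) 0 0) h
           simp [s] at h'
           first
           | exact h2 (by linear_combination h')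
           | exact h2 (by linear_combination (-1 : F) * h'))
    let ζ : (Fin n → ℤˣ) →* Wr ↥Q T :=
      SemidirectProduct.inl.comp (MonoidHom.compLeft (MonoidHom.mk' s hsmul) (Fin n))
    have hζ : Function.Injective ζ := fun a b h => funext fun i =>
      hsinj (congrFun (SemidirectProduct.inl_injective h) i)
    let E0 : Subgroup (Wr ↥Q T) := ζ.range
    have hn0 : E0.Normal := by
      refine ⟨fun x hx g => ?_⟩
      obtain ⟨a, rfl⟩ := hx
      refine ⟨fun i => a ((g.right : Perm (Fin n)).symm i), ?_⟩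
      rw [eq_mul_inv_iff_mul_eq]
      refine SemidirectProduct.ext (funext fun i => ?_) ?_
      · simp [ζ, SemidirectProduct.mul_left, MonoidHom.compLeft, hscomm]
      · simp [ζ, SemidirectProduct.mul_right]
    refine ⟨E0.map e.toMonoidHom, hn0.map e.toMonoidHom e.surjective, ⟨?_, ?_⟩, ?_⟩
    · refine ⟨⟨?_⟩⟩
      rintro ⟨_, _, ⟨a, rfl⟩, rfl⟩ ⟨_, _, ⟨b, rfl⟩, rfl⟩
      refine Subtype.ext ?_
      show e.toMonoidHom (ζ a) * e.toMonoidHom (ζ b) = e.toMonoidHom (ζ b) * e.toMonoidHom (ζ a)
      rw [← map_mul, ← map_mul, ← map_mul, ← map_mul, mul_comm]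
    · rintro _ ⟨_, ⟨a, rfl⟩, rfl⟩
      rw [← map_pow, ← map_pow, show a ^ 2 = 1 from funext fun i => Int.units_sq _, map_one, map_one]
    · rw [Subgroup.card_map_of_injective e.injective,
        ← Nat.card_congr (MonoidHom.ofInjective hζ).toEquiv]
      simp [Nat.card_fun, Nat.card_eq_fintype_card]
  · intro E _ hE
    have hEA := hE.1
    obtain ⟨-, hle⟩ := TwoRank.sp_rank h2 n
    have h := hle (E.map (S : Subgroup ↥(Matrix.symplecticGroup (Fin n) F)).subtype) inferInstance
      (by rintro _ ⟨x, hx, rfl⟩; rw [← map_pow, hE.2 x hx, map_one])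
    rwa [Subgroup.card_map_of_injective Subtype.coe_injective] at h

end Cfsg.Agent.SylTwo
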