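import Cfsg.Agent.Lib.SylTwo.Basic
import Cfsg.Agent.S4623

/-!
Wreath products `(ι → W) ⋊ T` for a permutation group `T`, their block matrices, and squares in
derived subgroups of kernels.
-/

set_option autoImplicit false

namespace Cfsg.Agent.SylTwo

open Equiv
open scoped commutatorElement

variable {W : Type*} [Group W] {ι : Type*}

/-- Permuting coordinates. -/
def wrAct (W : Type*) [Group W] (T : Subgroup (Perm ι)) : T →* MulAut (ι → W) where
  toFun σ :=
    { toFun := fun x i => x ((σ : Perm ι).symm i)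
      invFun := fun x i => x ((σ : Perm ι) i)
      left_inv := fun x => funext fun i => by simp
      right_inv := fun x => funext fun i => by simp
      map_mul' := fun _ _ => rfl }
  map_one' := rfl
  map_mul' _ _ := rfl

@[simp] theorem wrAct_apply (T : Subgroup (Perm ι)) (σ : T) (x : ι → W) (i : ι) :
    wrAct W T σ x i = x ((σ : Perm ι).symm i) := rfl

/-- The wreath product. -/
abbrev Wr (W : Type*) [Group W] (T : Subgroup (Perm ι)) := (ι → W) ⋊[wrAct W T] T

variable {T : Subgroup (Perm ι)}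

theorem card_wr [Fintype ι] : Nat.card (Wr W T) = Nat.card W ^ Fintype.card ι * Nat.card T := by
  rw [Nat.card_congr SemidirectProduct.equivProd, Nat.card_prod, Nat.card_fun,
    Nat.card_eq_fintype_card (α := ι)]

instance [Finite ι] [Finite W] : Finite (Wr W T) :=
  Finite.of_equiv _ SemidirectProduct.equivProd.symm

section single

variable [DecidableEq ι]

/-- A single coordinate. -/
def sgl (i : ι) : W →* Wr W T :=
  SemidirectProduct.inl.comp (MonoidHom.mulSingle (fun _ : ι => W) i)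

theorem sgl_apply (i : ι) (w : W) :
    (sgl i w : Wr W T) = SemidirectProduct.inl (Pi.mulSingle i w) := rfl

theorem inr_mul_sgl (σ : T) (i : ι) (w : W) :
    (SemidirectProduct.inr σ : Wr W T) * sgl i w * (SemidirectProduct.inr σ)⁻¹ =
      sgl ((σ : Perm ι) i) w := by
  rw [sgl_apply, sgl_apply, ← map_inv, ← SemidirectProduct.inl_aut]
  congr 1
  funext j
  rw [wrAct_apply]
  by_cases h : j = (σ : Perm ι) i
  · subst h; simp
  · rw [Pi.mulSingle_eq_of_ne h, Pi.mulSingle_eq_of_ne]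
    intro e; exact h (by rw [← e, Equiv.apply_symm_apply])

theorem sgl_injective (i : ι) : Function.Injective (sgl i : W →* Wr W T) := fun _ _ h =>
  Pi.mulSingle_injective (M := fun _ : ι => W) i (SemidirectProduct.inl_injective h)

theorem wr_mem [Finite ι] {H : Subgroup (Wr W T)} (h1 : ∀ i w, sgl i w ∈ H)
    (h2 : ∀ σ : T, SemidirectProduct.inr σ ∈ H) (p : Wr W T) : p ∈ H := by
  rw [show p = SemidirectProduct.inl p.left * SemidirectProduct.inr p.right from
    SemidirectProduct.mk_eq_inl_mul_inr _ _]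
  refine mul_mem ?_ (h2 _)
  exact Subgroup.pi_mem_of_mulSingle_mem (H := H.comap SemidirectProduct.inl) p.left
    fun i => h1 i _

theorem inr_mem_of_gens {H : Subgroup (Wr W T)} {ST : Set (Perm ι)}
    (hST : Subgroup.closure ST = T)
    (h : ∀ σ : T, (σ : Perm ι) ∈ ST → SemidirectProduct.inr σ ∈ H) (σ : T) :
    SemidirectProduct.inr σ ∈ H := by
  have hle : Subgroup.closure ST ≤ (H.comap SemidirectProduct.inr).map T.subtype := by
    rw [Subgroup.closure_le]
    intro s hs
    have hsT : s ∈ T := hST ▸ Subgroup.subset_closure hs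
    exact ⟨⟨s, hsT⟩, h ⟨s, hsT⟩ hs, rfl⟩
  obtain ⟨τ, hτ, hτσ⟩ := hle (show (σ : Perm ι) ∈ Subgroup.closure ST by rw [hST]; exact σ.2)
  rwa [show τ = σ from Subtype.ext hτσ] at hτ

/-- Squares lie in the derived subgroup of a wreath product. -/
theorem sqComm_wr [Finite ι] (hW : SqComm W) {ST : Set (Perm ι)}
    (hST : Subgroup.closure ST = T) (hST2 : ∀ s ∈ ST, s ^ 2 = 1) : SqComm (Wr W T) := by
  refine sqComm_of_closure (Set.range (fun p : ι × W => (sgl p.1 p.2 : Wr W T)) ∪
    {z | ∃ σ : T, (σ : Perm ι) ∈ ST ∧ SemidirectProduct.inr σ = z}) ?_ ?_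
  · rw [eq_top_iff]
    rintro p -
    refine wr_mem (fun i w => Subgroup.subset_closure (Or.inl ⟨(i, w), rfl⟩)) (fun σ => ?_) p
    exact inr_mem_of_gens hST (fun τ hτ => Subgroup.subset_closure (Or.inr ⟨τ, hτ, rfl⟩)) σ
  · rintro _ (⟨⟨i, w⟩, rfl⟩ | ⟨σ, hσ, rfl⟩)
    · exact sq_map_mem _ hW w
    · rw [← map_pow, show σ ^ 2 = 1 from Subtype.ext (by simpa using hST2 _ hσ), map_one]
      exact one_mem _

end single

/-! ### Kernels -/

/-- Squares lie in the derived subgroup of the kernel of a homomorphism to an abelian group. -/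
theorem sqComm_ker [DecidableEq ι] [Finite ι] {E K : Type*} [Group E] [CommGroup K]
    (χ : Wr W T × E →* K) (i0 : ι) (U : Set W) (hU : ∀ u ∈ U, u * u = 1)
    (SE : Set E) (hSE : Subgroup.closure SE = ⊤)
    (hSE2 : ∀ e ∈ SE, e * e = 1 ∧ ∃ u ∈ U, χ (1, e) = χ (sgl i0 u, 1))
    {ST : Set (Perm ι)} (hST : Subgroup.closure ST = T) (hST2 : ∀ s ∈ ST, s ^ 2 = 1)
    (hT : ∀ σ : T, χ (SemidirectProduct.inr σ, 1) = 1)
    (hsym : ∀ i w, χ (sgl i w, 1) = χ (sgl i0 w, 1))
    (hW : ∀ w, ∃ u ∈ Subgroup.closure U, χ (sgl i0 (u⁻¹ * w), 1) = 1)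
    (hker : ∀ i x (h : ((sgl i x, 1) : Wr W T × E) ∈ χ.ker),
      (⟨(sgl i x, 1), h⟩ : χ.ker) ^ 2 ∈ commutator χ.ker) :
    SqComm χ.ker := by
  classical
  have := Fintype.ofFinite ι
  -- powers of elements of `U` have value of order two
  have hUK : ∀ u ∈ U, χ (sgl i0 u, 1) * χ (sgl i0 u, 1) = 1 := fun u hu => by
    rw [← map_mul, Prod.mk_mul_mk, ← map_mul, hU u hu, map_one, mul_one, Prod.mk_one_one, map_one]
  have hpair : ∀ (i : ι) u, u ∈ U → i ≠ i0 →
      ((sgl i u * sgl i0 u, 1) : Wr W T × E) ∈ χ.ker := fun i u hu _ => by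
    rw [MonoidHom.mem_ker, show ((sgl i u * sgl i0 u, 1) : Wr W T × E) =
      (sgl i u, 1) * (sgl i0 u, 1) by simp, map_mul, hsym i u, hUK u hu]
  have hcomm : ∀ (i : ι) (u v : W), i ≠ i0 →
      (sgl i u : Wr W T) * sgl i0 v = sgl i0 v * sgl i u := fun i u v hi => by
    rw [sgl_apply, sgl_apply, ← map_mul, ← map_mul, Pi.mulSingle_commute hi]
  -- the generators
  let D : Set χ.ker := {z |
    (∃ i u, i ≠ i0 ∧ u ∈ U ∧ z.1 = (sgl i u * sgl i0 u, 1)) ∨
    (∃ σ : T, (σ : Perm ι) ∈ ST ∧ z.1 = (SemidirectProduct.inr σ, 1)) ∨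
    (∃ e u, e ∈ SE ∧ u ∈ U ∧ χ (1, e) = χ (sgl i0 u, 1) ∧ z.1 = (sgl i0 u, e)) ∨
    (∃ i x, z.1 = (sgl i x, 1))}
  refine sqComm_of_closure D ?_ ?_
  swap
  · rintro ⟨z, hz⟩ (⟨i, u, hi, hu, rfl⟩ | ⟨σ, hσ, rfl⟩ | ⟨e, u, he, hu, -, rfl⟩ | ⟨i, x, rfl⟩)
    · have h1 : ((sgl i u * sgl i0 u, 1) : Wr W T × E) ^ 2 = 1 := by
        have hc : Commute (sgl i u : Wr W T) (sgl i0 u) := hcomm i u u hi
        rw [Prod.pow_mk, hc.mul_pow, ← map_pow, ← map_pow, pow_two, hU u hu]
        simp
      rw [show (⟨_, hz⟩ : χ.ker) ^ 2 = 1 from Subtype.ext h1]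
      exact one_mem _
    · have h1 : ((SemidirectProduct.inr σ, 1) : Wr W T × E) ^ 2 = 1 := by
        rw [Prod.pow_mk, ← map_pow, show σ ^ 2 = 1 from Subtype.ext (by simpa using hST2 _ hσ)]
        simp
      rw [show (⟨_, hz⟩ : χ.ker) ^ 2 = 1 from Subtype.ext h1]
      exact one_mem _
    · have h1 : ((sgl i0 u, e) : Wr W T × E) ^ 2 = 1 := by
        rw [Prod.pow_mk, ← map_pow, pow_two, hU u hu, pow_two, (hSE2 e he).1]
        simp
      rw [show (⟨_, hz⟩ : χ.ker) ^ 2 = 1 from Subtype.ext h1]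
      exact one_mem _
    · exact hker i x hz
  -- generation
  let H : Subgroup (Wr W T × E) := (Subgroup.closure D).map χ.ker.subtype
  have hDH : ∀ (p : Wr W T × E) (hp : p ∈ χ.ker), (⟨p, hp⟩ : χ.ker) ∈ D → p ∈ H :=
    fun p hp h => ⟨⟨p, hp⟩, Subgroup.subset_closure h, rfl⟩
  have hHk : ∀ p ∈ H, χ p = 1 := by
    rintro _ ⟨z, -, rfl⟩; exact z.2
  have hinr : ∀ σ : T, ((SemidirectProduct.inr σ, 1) : Wr W T × E) ∈ H := by
    intro σ
    exact inr_mem_of_gens (H := H.comap (MonoidHom.inl (Wr W T) E)) hST (fun τ hτ =>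
      hDH _ (MonoidHom.mem_ker.2 (hT τ)) (Or.inr (Or.inl ⟨τ, hτ, rfl⟩))) σ
  have hdiag : ∀ (i : ι) (u : W), i ≠ i0 → u ∈ Subgroup.closure U →
      ((sgl i u * sgl i0 u, 1) : Wr W T × E) ∈ H := by
    intro i u hi hu
    let δ : W →* Wr W T × E := MonoidHom.mk' (fun w => (sgl i w * sgl i0 w, 1)) fun a b => by
      rw [Prod.mk_mul_mk, one_mul, map_mul, map_mul,
        Commute.mul_mul_mul_comm (hcomm i b a hi)]
    have : Subgroup.closure U ≤ H.comap δ := by
      rw [Subgroup.closure_le]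
      exact fun v hv => hDH _ (hpair i v hv hi) (Or.inl ⟨i, v, hi, hv, rfl⟩)
    exact this hu
  -- removing the coordinates away from `i0`
  have hbase : ∀ (x : ι → W) (s : Finset ι), i0 ∉ s → ∃ w : W,
      ((SemidirectProduct.inl (Pi.mulSingle i0 w * fun i => if i ∈ s then x i else 1), 1) :
        Wr W T × E) ∈ H := by
    intro x s
    induction s using Finset.induction_on with
    | empty =>
      intro _
      refine ⟨1, ?_⟩
      have : (fun i : ι => if i ∈ (∅ : Finset ι) then x i else (1 : W)) = 1 := by funext i; simp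
      rw [this, Pi.mulSingle_one, mul_one, map_one]
      exact one_mem H
    | @insert a s has ih =>
      intro hs
      rw [Finset.mem_insert, not_or] at hs
      obtain ⟨w, hw⟩ := ih hs.2
      obtain ⟨u, hu, hk⟩ := hW (x a)
      refine ⟨u * w, ?_⟩
      have hai : a ≠ i0 := fun e => hs.1 e.symm
      have hk' : ((sgl a (u⁻¹ * x a), 1) : Wr W T × E) ∈ χ.ker := by
        rw [MonoidHom.mem_ker, hsym, hk]
      have hm := mul_mem (mul_mem (hdiag a u hai hu)
        (hDH _ hk' (Or.inr (Or.inr (Or.inr ⟨a, _, rfl⟩))))) hw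
      convert hm using 1
      simp only [Prod.mk_mul_mk, mul_one, sgl_apply, ← map_mul]
      congr 2
      funext i
      simp only [Pi.mul_apply, Pi.mulSingle_apply, Finset.mem_insert]
      by_cases hi0 : i = i0
      · subst hi0
        simp [hs.1, hs.2, Ne.symm hai]
      · by_cases hia : i = a
        · subst hia
          simp [hi0, has]
        · simp [hi0, hia]
  have hE : ∀ e : E, ∃ w : W, ((sgl i0 w, e) : Wr W T × E) ∈ H := by
    intro e
    have he : e ∈ Subgroup.closure SE := hSE ▸ Subgroup.mem_top e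
    induction he using Subgroup.closure_induction with
    | mem e he =>
      obtain ⟨hee, u, hu, heq⟩ := hSE2 e he
      refine ⟨u, hDH _ ?_ (Or.inr (Or.inr (Or.inl ⟨e, u, he, hu, heq, rfl⟩)))⟩
      rw [MonoidHom.mem_ker, show ((sgl i0 u, e) : Wr W T × E) = (sgl i0 u, 1) * (1, e) by simp,
        map_mul, heq, hUK u hu]
    | one => exact ⟨1, by simp [← Prod.one_eq_mk]⟩
    | mul a b _ _ ha hb =>
      obtain ⟨u, hu⟩ := ha
      obtain ⟨v, hv⟩ := hb
      exact ⟨u * v, by simpa using mul_mem hu hv⟩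
    | inv a _ ha =>
      obtain ⟨u, hu⟩ := ha
      exact ⟨u⁻¹, by simpa using inv_mem hu⟩
  rw [eq_top_iff]
  rintro ⟨⟨p, e⟩, hp⟩ -
  suffices hmem : ((p, e) : Wr W T × E) ∈ H by
    obtain ⟨z, hz, hze⟩ := hmem
    rwa [show z = ⟨(p, e), hp⟩ from Subtype.ext hze] at hz
  obtain ⟨w, hw⟩ := hbase p.left (Finset.univ.erase i0) (by simp)
  obtain ⟨v, hv⟩ := hE e
  -- what is left at `i0`
  let y : W := w⁻¹ * p.left i0 * v⁻¹
  have hsplit : ((p, e) : Wr W T × E) =
      (SemidirectProduct.inl (Pi.mulSingle i0 w * fun i => if i ∈ Finset.univ.erase i0 then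
        p.left i else 1), 1) * (sgl i0 y, 1) * (sgl i0 v, e) * (SemidirectProduct.inr p.right, 1) := by
    simp only [Prod.mk_mul_mk, mul_one, one_mul, sgl_apply, ← map_mul]
    rw [← SemidirectProduct.mk_eq_inl_mul_inr]
    refine Prod.ext (SemidirectProduct.ext (funext fun i => ?_) rfl) rfl
    simp only [Pi.mul_apply, Pi.mulSingle_apply, Finset.mem_erase]
    by_cases hi : i = i0
    · subst hi; simp [y, mul_assoc]
    · simp [hi]
  have hy : ((sgl i0 y, 1) : Wr W T × E) ∈ χ.ker := by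
    have h0 := MonoidHom.mem_ker.1 hp
    rw [hsplit, map_mul, map_mul, map_mul, hHk _ hw, hHk _ hv, hHk _ (hinr p.right), one_mul,
      mul_one, mul_one] at h0
    exact MonoidHom.mem_ker.2 h0
  rw [hsplit]
  exact mul_mem (mul_mem (mul_mem hw (hDH _ hy (Or.inr (Or.inr (Or.inr ⟨i0, y, rfl⟩))))) hv)
    (hinr _)

/-! ### Sylow 2-subgroups of symmetric groups -/

theorem exists_sylow_perm (ι : Type) [Fintype ι] [DecidableEq ι] :
    ∃ (T : Subgroup (Perm ι)) (ST : Set (Perm ι)), Subgroup.closure ST = T ∧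
      (∀ s ∈ ST, s ^ 2 = 1) ∧
      Nat.card T = 2 ^ (Nat.factorial (Fintype.card ι)).factorization 2 := by
  classical
  haveI : Fact (Nat.Prime 2) := ⟨Nat.prime_two⟩
  obtain ⟨S, h1, -, h3, h4⟩ :=
    S4623.good_congr (Fintype.equivFin ι).symm (S4623.good_fin (p := 2) (Fintype.card ι))
  refine ⟨_, S, rfl, h1, le_antisymm ?_ h4⟩
  obtain ⟨R, hR⟩ := h3.exists_le_sylow
  refine (Subgroup.card_le_of_le hR).trans (le_of_eq ?_)
  rw [R.card_eq_multiplicity, Nat.card_perm, Nat.card_eq_fintype_card]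

/-! ### Block matrices -/

section matrix

open Matrix

variable {F : Type*} [Field F] [Fintype ι] [DecidableEq ι] {κ : Type*} [Fintype κ] [DecidableEq κ]

/-- The block monomial matrix. -/
def wrMatrix (ρ : W →* GL κ F) (p : Wr W T) : Matrix (ι × κ) (ι × κ) F :=
  Matrix.of fun r c => if (p.right : Perm ι).symm r.1 = c.1 then
    (ρ (p.left r.1) : Matrix κ κ F) r.2 c.2 else 0

theorem wrMatrix_mulVec (ρ : W →* GL κ F) (p : Wr W T) (v : ι × κ → F) (i : ι) (a : κ) :
    (wrMatrix ρ p *ᵥ v) (i, a) =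
      ((ρ (p.left i) : Matrix κ κ F) *ᵥ fun b => v ((p.right : Perm ι).symm i, b)) a := by
  simp only [Matrix.mulVec, dotProduct, wrMatrix, Matrix.of_apply, ite_mul, zero_mul,
    Fintype.sum_prod_type]
  rw [Finset.sum_comm]
  simp

theorem wrMatrix_mul (ρ : W →* GL κ F) (p r : Wr W T) :
    wrMatrix ρ (p * r) = wrMatrix ρ p * wrMatrix ρ r := by
  refine Matrix.ext_iff_mulVec.mpr fun v => funext fun ⟨i, a⟩ => ?_
  rw [← Matrix.mulVec_mulVec, wrMatrix_mulVec, wrMatrix_mulVec]
  simp only [SemidirectProduct.mul_left, SemidirectProduct.mul_right, Pi.mul_apply, wrAct_apply,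
    map_mul, Units.val_mul]
  rw [← Matrix.mulVec_mulVec]
  congr 1
  congr 1
  funext b
  rw [wrMatrix_mulVec]
  rfl

theorem wrMatrix_one (ρ : W →* GL κ F) : wrMatrix ρ (1 : Wr W T) = 1 := by
  refine Matrix.ext_iff_mulVec.mpr fun v => funext fun ⟨i, a⟩ => ?_
  simp [wrMatrix_mulVec, Equiv.Perm.one_def]

/-- The block monomial representation. -/
noncomputable def wrGL (ρ : W →* GL κ F) : Wr W T →* GL (ι × κ) F :=
  MonoidHom.toHomUnits
    { toFun := wrMatrix ρ, map_one' := wrMatrix_one ρ, map_mul' := wrMatrix_mul ρ }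

theorem coe_wrGL (ρ : W →* GL κ F) (p : Wr W T) :
    (wrGL ρ p : Matrix (ι × κ) (ι × κ) F) = wrMatrix ρ p := rfl

theorem wrGL_injective [Nonempty κ] (ρ : W →* GL κ F) (hρ : Function.Injective ρ) :
    Function.Injective (wrGL ρ : Wr W T →* _) := by
  rw [injective_iff_map_eq_one]
  intro p hp
  have h : ∀ (v : ι × κ → F), wrMatrix ρ p *ᵥ v = v := fun v => by
    rw [← coe_wrGL, hp]; simp
  have hσ : ∀ i, (p.right : Perm ι).symm i = i := by
    intro i
    by_contra hne
    obtain ⟨a⟩ := ‹Nonempty κ›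
    have hrow : ∀ b, (ρ (p.left i) : Matrix κ κ F) a b = 0 := by
      intro b
      have h1 := congrFun (h (Pi.single ((p.right : Perm ι).symm i, b) 1)) (i, a)
      rw [wrMatrix_mulVec, Pi.single_eq_of_ne (by simp [Ne.symm hne])] at h1
      rw [show (fun c => (Pi.single ((p.right : Perm ι).symm i, b) (1 : F) : ι × κ → F)
        ((p.right : Perm ι).symm i, c)) = Pi.single b 1 from funext fun c => by
          simp [Pi.single_apply]] at h1
      simpa using h1
    have hu := congrFun (congrFun ((ρ (p.left i)).mul_inv) a) a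
    simp [Matrix.mul_apply, hrow] at hu
  have hright : p.right = 1 := Subtype.ext (Equiv.ext fun i => by
    have := congrArg (p.right : Perm ι) (hσ i)
    simpa using this.symm)
  have hleft : p.left = 1 := funext fun i => hρ (by
    rw [Pi.one_apply, map_one]
    refine Units.ext (Matrix.ext_iff_mulVec.mpr fun v => funext fun a => ?_)
    have h1 := congrFun (h fun c => v c.2) (i, a)
    rw [wrMatrix_mulVec] at h1
    simpa using h1)
  exact SemidirectProduct.ext hleft hright

theorem det_wrMatrix_inl (ρ : W →* GL κ F) (x : ι → W) :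
    (wrMatrix ρ (SemidirectProduct.inl x : Wr W T)).det =
      ∏ i, (ρ (x i) : Matrix κ κ F).det := by
  rw [← Matrix.det_blockDiagonal, ← Matrix.det_submatrix_equiv_self (Equiv.prodComm ι κ)
    (Matrix.blockDiagonal fun i => (ρ (x i) : Matrix κ κ F))]
  congr 1

theorem det_wrMatrix_inr (ρ : W →* GL κ F) (σ : T) :
    (wrMatrix ρ (SemidirectProduct.inr σ : Wr W T)).det =
      ((Perm.sign (σ : Perm ι) : ℤ) : F) ^ Fintype.card κ := by
  have h : wrMatrix ρ (SemidirectProduct.inr σ : Wr W T) =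
      Equiv.Perm.permMatrix F (Equiv.prodCongrLeft fun _ : κ => (σ : Perm ι).symm) := by
    ext ⟨i, a⟩ ⟨j, b⟩
    simp only [wrMatrix, Matrix.of_apply, SemidirectProduct.left_inr, SemidirectProduct.right_inr,
      Pi.one_apply, map_one, Units.val_one, Equiv.Perm.permMatrix, PEquiv.toMatrix_apply,
      Equiv.toPEquiv_apply, Equiv.prodCongrLeft_apply, Option.mem_def, Option.some.injEq,
      Prod.mk.injEq, Matrix.one_apply]
    by_cases h1 : (σ : Perm ι).symm i = j <;> by_cases h2 : a = b <;> simp [h1, h2]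
  rw [h, Matrix.det_permutation, Equiv.Perm.sign_prodCongrLeft]
  simp [Equiv.Perm.sign_symm]

end matrix

/-! ### Derived series -/

theorem derived_add_le {G H : Type*} [Group G] [Group H] (f : H →* G) (b : ℕ)
    (h : derivedSeries G b ≤ f.range) (a : ℕ) :
    derivedSeries G (b + a) ≤ (derivedSeries H a).map f := by
  induction a with
  | zero => rwa [add_zero, derivedSeries_zero, ← MonoidHom.range_eq_map]
  | succ a ih =>
    rw [← add_assoc, derivedSeries_succ, derivedSeries_succ, Subgroup.map_commutator]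
    exact Subgroup.commutator_mono ih ih

theorem le_derived_add {G H : Type*} [Group G] [Group H] (f : H →* G) (b : ℕ)
    (h : f.range ≤ derivedSeries G b) (a : ℕ) :
    (derivedSeries H a).map f ≤ derivedSeries G (b + a) := by
  induction a with
  | zero => rwa [add_zero, derivedSeries_zero, ← MonoidHom.range_eq_map]
  | succ a ih =>
    rw [← add_assoc, derivedSeries_succ, derivedSeries_succ, Subgroup.map_commutator]
    exact Subgroup.commutator_mono ih ih

theorem derived_bot_of_injective {G H : Type*} [Group G] [Group H] (f : G →* H)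
    (hf : Function.Injective f) {n : ℕ} (h : derivedSeries H n = ⊥) : derivedSeries G n = ⊥ := by
  rw [eq_bot_iff]
  intro x hx
  have := map_derivedSeries_le_derivedSeries f n ⟨x, hx, rfl⟩
  rw [h, Subgroup.mem_bot] at this
  exact Subgroup.mem_bot.2 (hf (this.trans (map_one f).symm))

theorem derivedSeries_pi_bot {κ : Type*} {H : Type*} [Group H] {n : ℕ}
    (h : derivedSeries H n = ⊥) : derivedSeries (κ → H) n = ⊥ := by
  rw [eq_bot_iff]
  intro x hx
  refine Subgroup.mem_bot.2 (funext fun i => ?_)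
  have := map_derivedSeries_le_derivedSeries (Pi.evalMonoidHom (fun _ : κ => H) i) n ⟨x, hx, rfl⟩
  rwa [h, Subgroup.mem_bot] at this

theorem derived_wr_bot {a b : ℕ} (hW : derivedSeries W a = ⊥) (hT : derivedSeries T b = ⊥) :
    derivedSeries (Wr W T) (b + a) = ⊥ := by
  rw [eq_bot_iff]
  refine (derived_add_le SemidirectProduct.inl b ?_ a).trans ?_
  · intro x hx
    rw [SemidirectProduct.range_inl_eq_ker_rightHom, MonoidHom.mem_ker]
    have := map_derivedSeries_le_derivedSeries (SemidirectProduct.rightHom (φ := wrAct W T)) b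
      ⟨x, hx, rfl⟩
    rwa [hT, Subgroup.mem_bot] at this
  · rw [derivedSeries_pi_bot hW, Subgroup.map_bot]

theorem derived_wr_two_ne_bot {X : Type*} [Group X] {j : ℕ} (hX : derivedSeries X j ≠ ⊥) :
    derivedSeries (Wr X (⊤ : Subgroup (Perm (Fin 2)))) (1 + j) ≠ ⊥ := by
  let G := Wr X (⊤ : Subgroup (Perm (Fin 2)))
  let L : Subgroup (Fin 2 → X) := (derivedSeries G 1).comap SemidirectProduct.inl
  let ev : L →* X := (Pi.evalMonoidHom (fun _ : Fin 2 => X) 0).comp L.subtype
  have hev : Function.Surjective ev := by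
    intro x
    let σ : (⊤ : Subgroup (Perm (Fin 2))) := ⟨Equiv.swap 0 1, trivial⟩
    refine ⟨⟨Pi.mulSingle 0 x * Pi.mulSingle 1 x⁻¹, ?_⟩, ?_⟩
    · show SemidirectProduct.inl _ ∈ derivedSeries G 1
      rw [derivedSeries_one, commutator_def]
      have hmem := Subgroup.commutator_mem_commutator (H₁ := (⊤ : Subgroup G))
        (H₂ := (⊤ : Subgroup G)) (Subgroup.mem_top (sgl (0 : Fin 2) x : G))
        (Subgroup.mem_top (SemidirectProduct.inr σ : G))
      rw [commutatorElement_def, mul_assoc (sgl (0 : Fin 2) x : G) _ _,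
        mul_assoc (sgl (0 : Fin 2) x : G), ← map_inv, inr_mul_sgl σ 0 x⁻¹,
        show ((σ : Perm (Fin 2)) 0) = 1 from Equiv.swap_apply_left 0 1] at hmem
      rw [map_mul]
      exact hmem
    · show (Pi.mulSingle 0 x * Pi.mulSingle 1 x⁻¹ : Fin 2 → X) 0 = x
      simp
  intro hbot
  apply hX
  rw [← map_derivedSeries_eq (f := ev) hev j, eq_bot_iff]
  rintro _ ⟨z, hz, rfl⟩
  have hz' := le_derived_add ((SemidirectProduct.inl : (Fin 2 → X) →* G).comp L.subtype) 1
    (by rintro _ ⟨l, rfl⟩; exact l.2) j ⟨z, hz, rfl⟩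
  rw [hbot, Subgroup.mem_bot] at hz'
  have : (z : Fin 2 → X) = 1 := SemidirectProduct.inl_injective (hz'.trans (map_one _).symm)
  rw [Subgroup.mem_bot]
  show (z : Fin 2 → X) 0 = 1
  rw [this]; rfl

end Cfsg.Agent.SylTwo
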